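import Mathlib

/-!
# The automorphism group of an elementary abelian group of order eight
-/

set_option autoImplicit false
set_option linter.unusedSectionVars false

namespace Cfsg.Agent.Lib.J4Five.Linear

theorem slEquivGL :
    Nonempty (Matrix.SpecialLinearGroup (Fin 3) (ZMod 2) ≃* GL (Fin 3) (ZMod 2)) := by
  have hone : ∀ a : ZMod 2, a ≠ 0 → a = 1 := by decide
  have : Fact (Nat.Prime 2) := ⟨Nat.prime_two⟩
  refine ⟨MulEquiv.ofBijective Matrix.SpecialLinearGroup.toGL
    ⟨Matrix.SpecialLinearGroup.toGL_injective, fun g => ?_⟩⟩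
  exact ⟨⟨g, hone _ g.det.ne_zero⟩, Units.ext rfl⟩

/-- The automorphisms are the invertible matrices. -/
theorem mulAutEquiv {E : Type*} [Group E] [Finite E] (h2 : ∀ a : E, a * a = 1)
    (h8 : Nat.card E = 8) :
    Nonempty (MulAut E ≃* Matrix.SpecialLinearGroup (Fin 3) (ZMod 2)) := by
  classical
  have : Fact (Nat.Prime 2) := ⟨Nat.prime_two⟩
  let : CommGroup E :=
    { (inferInstance : Group E) with
      mul_comm := fun a b => by
        calc a * b = (b * b) * (a * b) * (a * a) := by rw [h2 a, h2 b, one_mul, mul_one]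
          _ = b * ((b * a) * (b * a)) * a := by group
          _ = b * a := by rw [h2 (b * a), mul_one] }
  let : Module (ZMod 2) (Additive E) := AddCommGroup.zmodModule fun a => by
    rw [two_nsmul]; exact h2 (Additive.toMul a)
  have hrank : Module.finrank (ZMod 2) (Additive E) = 3 := by
    have h := Module.natCard_eq_pow_finrank (K := ZMod 2) (V := Additive E)
    rw [Nat.card_zmod] at h
    have h8' : Nat.card (Additive E) = 2 ^ 3 := by
      rw [show (2 : ℕ) ^ 3 = 8 by norm_num, ← h8]
      exact Nat.card_congr Additive.toMul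
    rw [h8'] at h
    exact (Nat.pow_right_injective le_rfl h).symm
  let b : Module.Basis (Fin 3) (ZMod 2) (Additive E) := Module.finBasisOfFinrankEq _ _ hrank
  let aut : MulAut E ≃* (Additive E ≃ₗ[ZMod 2] Additive E) :=
    { toFun := fun φ => (MulEquiv.toAdditive φ).toLinearEquiv fun c x =>
        ZMod.map_smul (MulEquiv.toAdditive φ).toAddMonoidHom c x
      invFun := fun f => MulEquiv.toAdditive.symm f.toAddEquiv
      left_inv := fun φ => rfl
      right_inv := fun f => rfl
      map_mul' := fun φ ψ => rfl }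
  obtain ⟨sl⟩ := slEquivGL
  exact ⟨((aut.trans (LinearMap.GeneralLinearGroup.generalLinearEquiv _ _).symm).trans
    ((LinearMap.GeneralLinearGroup.congrLinearEquiv b.equivFun).trans
      Matrix.GeneralLinearGroup.toLin.symm)).trans sl.symm⟩

theorem card_mulAut {E : Type*} [Group E] [Finite E] (h2 : ∀ a : E, a * a = 1)
    (h8 : Nat.card E = 8) : Nat.card (MulAut E) = 168 := by
  have : Fact (Nat.Prime 2) := ⟨Nat.prime_two⟩
  obtain ⟨e⟩ := mulAutEquiv h2 h8
  obtain ⟨sl⟩ := slEquivGL
  rw [Nat.card_congr (e.trans sl).toEquiv, Matrix.card_GL_field, ZMod.card]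
  decide

end Cfsg.Agent.Lib.J4Five.Linear
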