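import Cfsg.Agent.Lib.J4Five.Fix
import Cfsg.Agent.Lib.Golay.Simple
import Cfsg.Prelude.Def_Transfer

/-!
# The fixed points of an element of order five on a `2^11`

By counting orbits: the fixed space has order eight and exactly one conjugate of `z`.
-/

set_option autoImplicit false
set_option linter.unusedSectionVars false

namespace Cfsg.Agent.Lib.J4Five

open Cfsg.Agent.Lib.J4Local
open Cfsg.Agent.Lib.LargeExtraspecial.Basic

variable {G : Type*} [Group G]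

/-- The facts about `2^11` subgroups and the second involution class that are used here. -/
structure Inputs (z : G) : Prop where
  exists_big : ∃ V : Subgroup G, Cfsg.IsElementaryAbelian 2 V ∧ Nat.card ↥V = 2 ^ 11
  split : ∀ V : Subgroup G, Cfsg.IsElementaryAbelian 2 V → Nat.card ↥V = 2 ^ 11 →
    Subgroup.centralizer (V : Set G) ≤ V ∧ ∃ K : Subgroup G,
      K ≤ Subgroup.normalizer (V : Set G) ∧ K ⊓ V = ⊥ ∧
      K ⊔ V = Subgroup.normalizer (V : Set G) ∧ Cfsg.Spor.IsoM24 ↥K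
  orbits : ∀ V : Subgroup G, Cfsg.IsElementaryAbelian 2 V → Nat.card ↥V = 2 ^ 11 →
    ∃ z' t : G, z' ∈ V ∧ t ∈ V ∧ t ≠ 1 ∧ IsConj z z' ∧ ¬ IsConj z t ∧
    Set.ncard {v : G | ∃ n ∈ Subgroup.normalizer (V : Set G), n * z' * n⁻¹ = v} = 1771 ∧
    Set.ncard {v : G | ∃ n ∈ Subgroup.normalizer (V : Set G), n * t * n⁻¹ = v} = 276 ∧
    Subgroup.centralizer ({t} : Set G) ≤ Subgroup.normalizer (V : Set G)
  second : ∀ t : G, orderOf t = 2 → ¬ IsConj z t → ∃ V K : Subgroup G,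
    V ≤ Subgroup.centralizer ({t} : Set G) ∧ K ≤ Subgroup.centralizer ({t} : Set G) ∧
    Subgroup.centralizer ({t} : Set G) ≤ Subgroup.normalizer (V : Set G) ∧
    Cfsg.IsElementaryAbelian 2 V ∧ Nat.card ↥V = 2 ^ 11 ∧ K ⊓ V = ⊥ ∧
    K ⊔ V = Subgroup.centralizer ({t} : Set G) ∧ Nonempty (↥K ≃* AutM22)

theorem zmod_five : ∀ a : ZMod 5, a ^ 3 = 1 → a = 1 := by decide

/-- The projection of a split extension onto the complement. -/
theorem quot_hom {V K C : Subgroup G} (hK : K ≤ C) (hn : C ≤ Subgroup.normalizer (V : Set G))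
    (hinf : K ⊓ V = ⊥) (hsup : K ⊔ V = C) {B : Type*} [Group B] (iso : ↥K ≃* B) :
    ∃ ψ : ↥C →* B, Function.Surjective ψ ∧ ∀ d, ψ d = 1 ↔ (d : G) ∈ V := by
  classical
  have hnorm : (V.subgroupOf C).Normal :=
    ⟨fun a ha g => (Subgroup.mem_normalizer_iff.mp (hn g.2) a).mp ha⟩
  let q : ↥K →* ↥C ⧸ V.subgroupOf C := (QuotientGroup.mk' _).comp (Subgroup.inclusion hK)
  have hq : Function.Bijective q := by
    constructor
    · rw [injective_iff_map_eq_one]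
      intro k hk
      have hk' : (k : G) ∈ V := (QuotientGroup.eq_one_iff (Subgroup.inclusion hK k)).mp hk
      have : (k : G) ∈ K ⊓ V := ⟨k.2, hk'⟩
      rw [hinf, Subgroup.mem_bot] at this
      exact Subtype.ext this
    · intro y
      induction y using QuotientGroup.induction_on with
      | H d =>
        have hd : (d : G) ∈ ((K ⊔ V : Subgroup G) : Set G) := hsup.symm ▸ (d.2 : (d : G) ∈ C)
        rw [Subgroup.coe_mul_of_left_le_normalizer_right K V (hK.trans hn)] at hd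
        obtain ⟨k, hk, v, hv, hkv⟩ := hd
        refine ⟨⟨k, hk⟩, QuotientGroup.eq.mpr ?_⟩
        show ((Subgroup.inclusion hK ⟨k, hk⟩)⁻¹ * d : ↥C) ∈ V.subgroupOf C
        rw [Subgroup.mem_subgroupOf]
        show k⁻¹ * (d : G) ∈ V
        rw [← hkv, inv_mul_cancel_left]
        exact hv
  refine ⟨(iso.toMonoidHom.comp (MulEquiv.ofBijective q hq).symm.toMonoidHom).comp
    (QuotientGroup.mk' _), ?_, fun d => ?_⟩
  · exact (iso.surjective.comp (MulEquiv.ofBijective q hq).symm.surjective).comp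
      (QuotientGroup.mk'_surjective _)
  · simp only [MonoidHom.comp_apply, MulEquiv.coe_toMonoidHom, map_eq_one_iff _ iso.injective,
      map_eq_one_iff _ (MulEquiv.ofBijective q hq).symm.injective, QuotientGroup.mk'_apply,
      QuotientGroup.eq_one_iff, Subgroup.mem_subgroupOf]

theorem card_split [Finite G] {V C : Subgroup G} (hV : V ≤ C) {B : Type*} [Group B]
    {ψ : ↥C →* B} (hs : Function.Surjective ψ) (hk : ∀ d, ψ d = 1 ↔ (d : G) ∈ V) :
    Nat.card ↥C = Nat.card ↥V * Nat.card B ∧ Nat.card ↥ψ.ker = Nat.card ↥V := by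
  have hker : ψ.ker = V.subgroupOf C := by
    ext d; rw [MonoidHom.mem_ker, hk, Subgroup.mem_subgroupOf]
  have hc : Nat.card ↥ψ.ker = Nat.card ↥V := by
    rw [hker, Nat.card_congr (Subgroup.subgroupOfEquivOfLe hV).toEquiv]
  have h := Subgroup.card_mul_index ψ.ker
  rw [Subgroup.index_ker, MonoidHom.range_eq_top.mpr hs,
    Nat.card_congr Subgroup.topEquiv.toEquiv, hc] at h
  exact ⟨h.symm, hc⟩

/-- Normalisers of subgroups of order five in an extension by a 2-group. -/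
theorem card_normalizer_five {W B : Type*} [Group W] [Finite W] [Group B] [Finite B] (ψ : W →* B)
    (hs : Function.Surjective ψ) {k : ℕ} (hk : Nat.card ↥ψ.ker = 2 ^ k) {σ : W}
    (hσ : orderOf σ = 5) :
    orderOf (ψ σ) = 5 ∧
    Nat.card ↥(Subgroup.normalizer ((Subgroup.zpowers σ : Subgroup W) : Set W)) =
      Nat.card ↥(Subgroup.normalizer ((Subgroup.zpowers (ψ σ) : Subgroup B) : Set B)) *
        Nat.card ↥(ψ.ker ⊓ Subgroup.centralizer ({σ} : Set W)) := by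
  classical
  have := Fact.mk Nat.prime_five
  have hnot : ∀ i : ℤ, σ ^ i ∈ ψ.ker → σ ^ i = 1 := by
    intro i hi
    have d1 := orderOf_dvd_natCard (⟨_, hi⟩ : ↥ψ.ker)
    rw [Subgroup.orderOf_mk, hk] at d1
    have d2 : orderOf (σ ^ i) ∣ 5 := by
      refine orderOf_dvd_of_pow_eq_one ?_
      rw [← zpow_natCast, ← zpow_mul, mul_comm, zpow_mul, zpow_natCast, ← hσ, pow_orderOf_eq_one,
        one_zpow]
    have hc : Nat.Coprime (2 ^ k) 5 := Nat.Coprime.pow_left k (by norm_num)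
    exact orderOf_eq_one_iff.mp (Nat.dvd_one.mp (hc ▸ Nat.dvd_gcd d1 d2))
  have hψ : orderOf (ψ σ) = 5 := by
    refine orderOf_eq_prime ?_ fun h => ?_
    · rw [← map_pow, ← hσ, pow_orderOf_eq_one, map_one]
    · have := hnot 1 (by rw [zpow_one]; exact h)
      rw [zpow_one] at this
      rw [this, orderOf_one] at hσ
      norm_num at hσ
  refine ⟨hψ, ?_⟩
  set N := Subgroup.normalizer ((Subgroup.zpowers σ : Subgroup W) : Set W) with hN
  let m : ↥N →* B := ψ.comp N.subtype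
  have hrange : m.range =
      Subgroup.normalizer ((Subgroup.zpowers (ψ σ) : Subgroup B) : Set B) := by
    ext a
    constructor
    · rintro ⟨d, rfl⟩
      obtain ⟨j, hj⟩ := (Subgroup.mem_normalizer_iff.mp d.2 σ).mp (Subgroup.mem_zpowers σ)
      have hj' : σ ^ j = (d : W) * σ * (d : W)⁻¹ := hj
      refine mem_normalizer_of_le ?_
      rintro _ ⟨i, rfl⟩
      rw [← conj_zpow]
      refine zpow_mem (Subgroup.mem_zpowers_iff.mpr ⟨j, ?_⟩) i
      show ψ σ ^ j = ψ d * ψ σ * (ψ d)⁻¹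
      rw [← map_zpow, hj', map_mul, map_mul, map_inv]
    · intro ha
      obtain ⟨h0, rfl⟩ := hs a
      set M := (Subgroup.zpowers (ψ σ)).comap ψ with hM
      have hσM : σ ∈ M := Subgroup.mem_zpowers (ψ σ)
      have hτM : h0 * σ * h0⁻¹ ∈ M := by
        show ψ (h0 * σ * h0⁻¹) ∈ Subgroup.zpowers (ψ σ)
        rw [map_mul, map_mul, map_inv]
        exact (Subgroup.mem_normalizer_iff.mp ha _).mp (Subgroup.mem_zpowers _)
      have hcardM : Nat.card ↥M = 5 * 2 ^ k := by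
        have h1 := Subgroup.card_mul_index M
        have h2 := Subgroup.card_mul_index (Subgroup.zpowers (ψ σ))
        rw [hM, Subgroup.index_comap_of_surjective _ hs] at h1
        rw [Nat.card_zpowers, hψ] at h2
        have h3 := Subgroup.card_mul_index ψ.ker
        rw [Subgroup.index_ker, MonoidHom.range_eq_top.mpr hs,
          Nat.card_congr Subgroup.topEquiv.toEquiv, hk] at h3
        have hi : (Subgroup.zpowers (ψ σ)).index ≠ 0 := Subgroup.index_ne_zero_of_finite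
        refine mul_right_cancel₀ hi ?_
        rw [h1, ← h3, ← h2]
        ring
      obtain ⟨d, i, hi⟩ := conj_zpowers_five (W := ↥M) (a := ⟨_, hτM⟩) (b := ⟨σ, hσM⟩)
        (by
          rw [hcardM]
          intro h
          have h5 : 5 ∣ 2 ^ k :=
            Nat.dvd_of_mul_dvd_mul_left (by norm_num : 0 < 5) (by simpa using h)
          have := Nat.Prime.dvd_of_dvd_pow Nat.prime_five h5
          norm_num at this)
        (by rw [Subgroup.orderOf_mk]; exact (MulEquiv.orderOf_eq (MulAut.conj h0) σ).trans hσ)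
        (by rw [Subgroup.orderOf_mk, hσ])
      obtain ⟨j, hj⟩ := Subgroup.mem_zpowers_iff.mp (d.2 : ψ d.1 ∈ _)
      have hi' : σ ^ i = d.1 * (h0 * σ * h0⁻¹) * d.1⁻¹ := congrArg Subtype.val hi
      refine ⟨⟨σ ^ (-j) * d.1 * h0, mem_normalizer_of_le ?_⟩, ?_⟩
      · rintro _ ⟨l, rfl⟩
        rw [← conj_zpow]
        refine zpow_mem (Subgroup.mem_zpowers_iff.mpr ⟨i, ?_⟩) l
        calc σ ^ i = σ ^ (-j) * σ ^ i * (σ ^ (-j))⁻¹ := by group
          _ = _ := by rw [hi']; group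
      · show ψ (σ ^ (-j) * d.1 * h0) = ψ h0
        rw [map_mul, map_mul, map_zpow, ← hj, ← zpow_add, neg_add_cancel, zpow_zero, one_mul]
  have hker : Nat.card ↥m.ker = Nat.card ↥(ψ.ker ⊓ Subgroup.centralizer ({σ} : Set W)) := by
    refine Nat.card_congr ⟨fun d => ⟨d.1.1, d.2, mem_centralizer_single.mpr ?_⟩,
      fun d => ⟨⟨d.1, ?_⟩, d.2.1⟩, fun _ => rfl, fun _ => rfl⟩
    · obtain ⟨j, hj⟩ := (Subgroup.mem_normalizer_iff.mp d.1.2 σ).mp (Subgroup.mem_zpowers σ)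
      have hj' : σ ^ j = (d.1 : W) * σ * (d.1 : W)⁻¹ := hj
      have h1 : σ ^ (j - 1) ∈ ψ.ker := by
        have hd1 : ψ (d.1 : W) = 1 := d.2
        rw [MonoidHom.mem_ker, sub_eq_add_neg, zpow_add, hj', zpow_neg_one, map_mul, map_mul,
          map_mul, map_inv, map_inv, hd1]
        simp
      have h2 := hnot _ h1
      rw [sub_eq_add_neg, zpow_add, hj', zpow_neg_one, mul_inv_eq_one] at h2
      exact mul_inv_eq_iff_eq_mul.mp h2
    · refine Subgroup.centralizer_le_normalizer _ ?_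
      rw [Subgroup.zpowers_eq_closure, Subgroup.centralizer_closure]
      exact d.2.2
  have h := Subgroup.card_mul_index m.ker
  rw [Subgroup.index_ker, hrange, hker, mul_comm] at h
  exact h.symm

variable [Finite G]

/-- The points of an orbit fixed by an element of order five. -/
theorem fixed_mul {N : Subgroup G} {t x : G} (hxN : x ∈ N) (hx : orderOf x = 5)
    (hxt : Commute x t) (h25 : ¬ 25 ∣ Nat.card ↥(N ⊓ cz t)) :
    Set.ncard {v | (∃ n ∈ N, n * t * n⁻¹ = v) ∧ Commute v x} *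
      Nat.card ↥((N ⊓ Subgroup.normalizer ((Subgroup.zpowers x : Subgroup G) : Set G)) ⊓ cz t) =
      Nat.card ↥(N ⊓ Subgroup.normalizer ((Subgroup.zpowers x : Subgroup G) : Set G)) := by
  classical
  set Nx := N ⊓ Subgroup.normalizer ((Subgroup.zpowers x : Subgroup G) : Set G) with hNx
  set Fx := {v | (∃ n ∈ N, n * t * n⁻¹ = v) ∧ Commute v x} with hFx
  have hfix : ∀ n : ↥Nx, (n : G) * t * (n : G)⁻¹ ∈ Fx := fun n => by
    refine ⟨⟨n, n.2.1, rfl⟩, ?_⟩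
    obtain ⟨i, hi⟩ := (Subgroup.mem_normalizer_iff.mp (inv_mem n.2.2) x).mp
      (Subgroup.mem_zpowers x)
    have hi' : x ^ i = (n : G)⁻¹ * x * (n : G)⁻¹⁻¹ := hi
    have := (hxt.zpow_left i).symm.map (MulAut.conj (n : G))
    simp only [MulAut.conj_apply, hi', inv_inv] at this
    rwa [show (n : G) * ((n : G)⁻¹ * x * n) * (n : G)⁻¹ = x by group] at this
  let g : ↥Nx ⧸ (cz t).subgroupOf Nx → ↥Fx :=
    Quotient.lift (fun n => ⟨_, hfix n⟩) (by
      intro a b hab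
      have hab' := Subgroup.mem_subgroupOf.mp (QuotientGroup.leftRel_apply.mp hab)
      have hc : ((a : G)⁻¹ * b) * t * ((a : G)⁻¹ * b)⁻¹ = t :=
        mul_inv_eq_iff_eq_mul.mpr (mem_cz.mp hab').eq
      refine Subtype.ext ?_
      show (a : G) * t * (a : G)⁻¹ = (b : G) * t * (b : G)⁻¹
      conv_lhs => rw [← hc]
      group)
  have hg : Function.Bijective g := by
    constructor
    · intro a b
      induction a using QuotientGroup.induction_on with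
      | H a =>
        induction b using QuotientGroup.induction_on with
        | H b =>
          intro h
          have h' : (a : G) * t * (a : G)⁻¹ = (b : G) * t * (b : G)⁻¹ := congrArg Subtype.val h
          rw [QuotientGroup.eq, Subgroup.mem_subgroupOf]
          refine mem_cz.mpr (mul_inv_eq_iff_eq_mul.mp ?_)
          calc ((a⁻¹ * b : ↥Nx) : G) * t * ((a⁻¹ * b : ↥Nx) : G)⁻¹
              = (a : G)⁻¹ * ((b : G) * t * (b : G)⁻¹) * a := by
                simp only [Subgroup.coe_mul, Subgroup.coe_inv]; group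
            _ = t := by rw [← h']; group
    · rintro ⟨v, ⟨n, hn, rfl⟩, hv⟩
      have ho : orderOf (n⁻¹ * x * n) = 5 := by
        have := MulEquiv.orderOf_eq (MulAut.conj n⁻¹) x
        simp only [MulAut.conj_apply, inv_inv] at this
        rw [this, hx]
      have h1 : n⁻¹ * x * n ∈ N ⊓ cz t := by
        refine Subgroup.mem_inf.mpr ⟨mul_mem (mul_mem (inv_mem hn) hxN) hn, mem_cz.mpr ?_⟩
        have := hv.symm.map (MulAut.conj n⁻¹)
        simp only [MulAut.conj_apply, inv_inv] at this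
        rwa [show n⁻¹ * (n * t * n⁻¹) * n = t by group] at this
      obtain ⟨⟨d, hd⟩, i, hi⟩ := conj_zpowers_five h25 (a := (⟨_, h1⟩ : ↥(N ⊓ cz t)))
        (b := ⟨x, hxN, mem_cz.mpr hxt⟩)
        ((orderOf_injective (N ⊓ cz t).subtype Subtype.coe_injective _).symm.trans ho)
        ((orderOf_injective (N ⊓ cz t).subtype Subtype.coe_injective _).symm.trans hx)
      have hi' : x ^ i = d * (n⁻¹ * x * n) * d⁻¹ := congrArg Subtype.val hi
      have hmem : n * d⁻¹ ∈ Nx := by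
        refine Subgroup.mem_inf.mpr ⟨mul_mem hn (inv_mem hd.1), ?_⟩
        have hinv : (n * d⁻¹)⁻¹ ∈
            Subgroup.normalizer ((Subgroup.zpowers x : Subgroup G) : Set G) := by
          refine mem_normalizer_of_le ?_
          rintro _ ⟨l, rfl⟩
          rw [← conj_zpow]
          refine zpow_mem (Subgroup.mem_zpowers_iff.mpr ⟨i, ?_⟩) l
          rw [hi']; group
        simpa using inv_mem hinv
      refine ⟨QuotientGroup.mk ⟨n * d⁻¹, hmem⟩, Subtype.ext ?_⟩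
      show n * d⁻¹ * t * (n * d⁻¹)⁻¹ = n * t * n⁻¹
      rw [show n * d⁻¹ * t * (n * d⁻¹)⁻¹ = n * (d⁻¹ * t * d⁻¹⁻¹) * n⁻¹ by group,
        mul_inv_eq_iff_eq_mul.mpr (mem_cz.mp (inv_mem hd.2)).eq]
  have hcard : Nat.card ↥((cz t).subgroupOf Nx) = Nat.card ↥(Nx ⊓ cz t) :=
    Nat.card_congr ⟨fun d => ⟨d.1.1, d.1.2, d.2⟩, fun d => ⟨⟨d.1, d.2.1⟩, d.2.2⟩,
      fun _ => rfl, fun _ => rfl⟩
  rw [← hcard, ← Nat.card_coe_set_eq, ← Nat.card_eq_of_bijective g hg]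
  exact (Subgroup.card_eq_card_quotient_mul_card_subgroup _).symm

variable {z p x e : G}

theorem norm_cz (V : Subgroup G) (x : G) :
    Nat.card ↥(Subgroup.normalizer ((Subgroup.zpowers x : Subgroup G) : Set G) ⊓ V) =
      Nat.card ↥(V ⊓ Subgroup.normalizer ((Subgroup.zpowers x : Subgroup G) : Set G)) := by
  rw [inf_comm]

/-- Normalisers inside a split extension, read in the group. -/
theorem card_norm_inside {V C : Subgroup G} (hV : V ≤ C) {k : ℕ} (hV2 : Nat.card ↥V = 2 ^ k)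
    {B : Type*} [Group B] [Finite B] {ψ : ↥C →* B} (hs : Function.Surjective ψ)
    (hk : ∀ d, ψ d = 1 ↔ (d : G) ∈ V) (hxC : x ∈ C) (hx : orderOf x = 5) :
    orderOf (ψ ⟨x, hxC⟩) = 5 ∧
    Nat.card ↥(C ⊓ Subgroup.normalizer ((Subgroup.zpowers x : Subgroup G) : Set G)) =
      Nat.card ↥(Subgroup.normalizer
        ((Subgroup.zpowers (ψ ⟨x, hxC⟩) : Subgroup B) : Set B)) * Nat.card ↥(V ⊓ cz x) := by
  obtain ⟨h1, h2⟩ := card_normalizer_five ψ hs ((card_split hV hs hk).2.trans hV2)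
    (σ := (⟨x, hxC⟩ : ↥C)) (by rw [Subgroup.orderOf_mk, hx])
  refine ⟨h1, ?_⟩
  have hA : Nat.card ↥(ψ.ker ⊓ Subgroup.centralizer ({(⟨x, hxC⟩ : ↥C)} : Set ↥C)) =
      Nat.card ↥(V ⊓ cz x) :=
    Nat.card_congr ⟨fun d => ⟨d.1.1, (hk d.1).mp d.2.1, mem_cz.mpr
        (congrArg Subtype.val (mem_centralizer_single.mp d.2.2).eq)⟩,
      fun v => ⟨⟨v.1, hV v.2.1⟩, (hk _).mpr v.2.1,
        mem_centralizer_single.mpr (Subtype.ext (mem_cz.mp v.2.2).eq)⟩,
      fun _ => rfl, fun _ => rfl⟩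
  have hzp : ∀ y : ↥C, y ∈ Subgroup.zpowers (⟨x, hxC⟩ : ↥C) ↔
      (y : G) ∈ Subgroup.zpowers x := fun y =>
    ⟨fun ⟨i, hi⟩ => ⟨i, congrArg Subtype.val hi⟩, fun ⟨i, hi⟩ => ⟨i, Subtype.ext hi⟩⟩
  have hN : Nat.card ↥(Subgroup.normalizer
      ((Subgroup.zpowers (⟨x, hxC⟩ : ↥C) : Subgroup ↥C) : Set ↥C)) =
      Nat.card ↥(C ⊓ Subgroup.normalizer ((Subgroup.zpowers x : Subgroup G) : Set G)) := by
    refine Nat.card_congr ⟨fun d => ⟨d.1.1, d.1.2, ?_⟩, fun d => ⟨⟨d.1, d.2.1⟩, ?_⟩,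
      fun _ => rfl, fun _ => rfl⟩
    · refine mem_normalizer_of_le fun y hy => ?_
      obtain ⟨i, rfl⟩ := hy
      exact (hzp (d.1 * (⟨x ^ i, zpow_mem hxC i⟩ : ↥C) * d.1⁻¹)).mp
        ((Subgroup.mem_normalizer_iff.mp d.2 _).mp ((hzp _).mpr (Subgroup.zpow_mem_zpowers x i)))
    · refine mem_normalizer_of_le fun y hy => (hzp _).mpr ?_
      exact (Subgroup.mem_normalizer_iff.mp d.2.2 _).mp ((hzp y).mp hy)
  rw [hN, hA] at h2
  exact h2

theorem dvd_240 {k : ℕ} (h : k ∣ 240) (hk : k % 5 = 1) : k = 1 ∨ k = 6 ∨ k = 16 := by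
  have hle := Nat.le_of_dvd (by norm_num) h
  obtain ⟨j, rfl⟩ : ∃ j, k = 5 * j + 1 := ⟨k / 5, by omega⟩
  have : j ≤ 47 := by omega
  interval_cases j <;> omega

/-- The fixed space in a `2^11`. -/
theorem fixed_space (S : Setting z p) (F5 : FiveFacts) (I : Inputs z) (hx : orderOf x = 5)
    {V : Subgroup G} (hV : Cfsg.IsElementaryAbelian 2 V) (hVc : Nat.card ↥V = 2 ^ 11)
    (hxV : x ∈ Subgroup.normalizer (V : Set G)) :
    Nat.card ↥(V ⊓ cz x) = 8 ∧ Set.ncard {v | v ∈ V ⊓ cz x ∧ IsConj z v} = 1 ∧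
      (∀ v ∈ V, v * v = 1) ∧
      ∃ c, orderOf c = 3 ∧ Commute c x ∧ c ∈ Subgroup.normalizer (V : Set G) := by
  classical
  have := Fact.mk Nat.prime_five
  have := Fact.mk Nat.prime_two
  set N := Subgroup.normalizer (V : Set G) with hN
  have hsq : ∀ v ∈ V, v * v = 1 := fun v hv => by rw [← sq]; exact hV.2 v hv
  obtain ⟨-, K, hK, hinf, hsup, ⟨iso⟩⟩ := I.split V hV hVc
  obtain ⟨ψ, hψ, hψk⟩ := quot_hom hK le_rfl hinf hsup iso
  have hVN : V ≤ N := Subgroup.le_normalizer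
  obtain ⟨hNcard, -⟩ := card_split hVN hψ hψk
  rw [hVc, Cfsg.Agent.Lib.Golay.card_M24] at hNcard
  obtain ⟨hb, hNx⟩ := card_norm_inside hVN hVc hψ hψk hxV hx
  rw [F5.norm24 _ hb] at hNx
  set A := V ⊓ cz x with hA
  set Nx := N ⊓ Subgroup.normalizer ((Subgroup.zpowers x : Subgroup G) : Set G) with hNxdef
  obtain ⟨a, ha⟩ := ((IsPGroup.of_card hVc).to_le (inf_le_left : A ≤ V)).exists_card_eq
  obtain ⟨z', t, hz'V, htV, ht1, hzz', hnt, hO1, hO2, hct⟩ := I.orbits V hV hVc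
  have hx5 : x ^ 5 = 1 := pow_five hx
  have h25 : ∀ w : G, ¬ 25 ∣ Nat.card ↥(N ⊓ cz w) := fun w h => by
    have h' := h.trans (Subgroup.card_dvd_of_le inf_le_left)
    rw [hNcard] at h'
    norm_num at h'
  have hstab : ∀ w ∈ V, A ≤ Nx ⊓ cz w := by
    intro w hw v hv
    refine ⟨⟨hVN hv.1, Subgroup.centralizer_le_normalizer _ ?_⟩, mem_cz.mpr ?_⟩
    · rw [Subgroup.zpowers_eq_closure, Subgroup.centralizer_closure]; exact hv.2
    · exact congrArg Subtype.val (hV.1.is_comm.comm (⟨v, hv.1⟩ : ↥V) ⟨w, hw⟩)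
  have horbit : ∀ w ∈ V, ∀ m, m % 5 = 1 → Set.ncard {v | ∃ n ∈ N, n * w * n⁻¹ = v} = m →
      ∃ w', w' ∈ A ∧ (∃ n ∈ N, n * w * n⁻¹ = w') ∧
        ∃ k, k % 5 = 1 ∧ k ∣ 240 ∧
          Set.ncard {v | (∃ n ∈ N, n * w * n⁻¹ = v) ∧ Commute v x} = k ∧
          k * Nat.card ↥(Nx ⊓ cz w') = 240 * Nat.card ↥A := by
    intro w hw m hm hcard
    have hmod := Cfsg.Agent.Lib.J4Seven.card_modEq hx5 (fun v => ∃ n ∈ N, n * w * n⁻¹ = v) (by
      rintro v ⟨n, hn, rfl⟩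
      exact ⟨x * n, mul_mem hxV hn, by group⟩)
    rw [show Nat.card {v // ∃ n ∈ N, n * w * n⁻¹ = v} = m from
      (Nat.card_coe_set_eq _).trans hcard, Nat.ModEq] at hmod
    change m % 5 = Nat.card ↥{v | (∃ n ∈ N, n * w * n⁻¹ = v) ∧ Commute v x} % 5 at hmod
    rw [Nat.card_coe_set_eq, hm] at hmod
    obtain ⟨w', ⟨n₀, hn₀, hw'⟩, hw'x⟩ :
        {v | (∃ n ∈ N, n * w * n⁻¹ = v) ∧ Commute v x}.Nonempty :=
      Set.nonempty_of_ncard_ne_zero (by omega)
    have hw'V : w' ∈ V := hw' ▸ (Subgroup.mem_normalizer_iff.mp hn₀ w).mp hw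
    refine ⟨w', ⟨hw'V, mem_cz.mpr hw'x⟩, ⟨n₀, hn₀, hw'⟩, ?_⟩
    have hsame : {v | (∃ n ∈ N, n * w * n⁻¹ = v) ∧ Commute v x} =
        {v | (∃ n ∈ N, n * w' * n⁻¹ = v) ∧ Commute v x} := by
      ext v
      constructor
      · rintro ⟨⟨n, hn, rfl⟩, h⟩
        exact ⟨⟨n * n₀⁻¹, mul_mem hn (inv_mem hn₀), by rw [← hw']; group⟩, h⟩
      · rintro ⟨⟨n, hn, rfl⟩, h⟩
        exact ⟨⟨n * n₀, mul_mem hn hn₀, by rw [← hw']; group⟩, h⟩
    have hmul := fixed_mul (N := N) hxV hx hw'x.symm (h25 w')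
    rw [← hsame, ← hNxdef, hNx] at hmul
    refine ⟨_, hmod.symm, ?_, rfl, hmul⟩
    obtain ⟨l, hl⟩ := Subgroup.card_dvd_of_le (hstab w' hw'V)
    refine ⟨l, Nat.eq_of_mul_eq_mul_left (Nat.card_pos (α := ↥A)) ?_⟩
    rw [mul_comm _ 240, ← hmul, hl]
    ring
  obtain ⟨t₁, ht₁A, ⟨n₁, hn₁, ht₁⟩, k₂, hk₂5, hk₂d, hk₂, hmul₂⟩ :=
    horbit t htV 276 (by norm_num) hO2
  obtain ⟨w₁, hw₁A, -, k₁, hk₁5, hk₁d, hk₁, -⟩ := horbit z' hz'V 1771 (by norm_num) hO1
  -- the two orbits cover `V`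
  set O1 := {v | ∃ n ∈ N, n * z' * n⁻¹ = v} with hO1def
  set O2 := {v | ∃ n ∈ N, n * t * n⁻¹ = v} with hO2def
  have hO1z : ∀ v ∈ O1, IsConj z v := by
    rintro v ⟨n, -, rfl⟩; exact hzz'.trans (isConj_iff.mpr ⟨n, rfl⟩)
  have hO2z : ∀ v ∈ O2, ¬ IsConj z v := by
    rintro v ⟨n, -, rfl⟩ h
    exact hnt (h.trans (isConj_iff.mpr ⟨n, rfl⟩ : IsConj t _).symm)
  have hz'1 : z' ≠ 1 := by
    rintro rfl
    obtain ⟨g, hg⟩ := isConj_iff.mp hzz'
    exact S.z_ne_one (conj_eq_one_iff.mp hg)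
  have hcover : insert 1 (O1 ∪ O2) = (V : Set G) := by
    refine Set.eq_of_subset_of_ncard_le ?_ ?_ (Set.toFinite _)
    · rintro v (rfl | ⟨n, hn, rfl⟩ | ⟨n, hn, rfl⟩)
      · exact one_mem V
      · exact (Subgroup.mem_normalizer_iff.mp hn z').mp hz'V
      · exact (Subgroup.mem_normalizer_iff.mp hn t).mp htV
    · rw [← Nat.card_coe_set_eq (V : Set G), SetLike.coe_sort_coe, hVc, Set.ncard_insert_of_notMem,
        Set.ncard_union_eq (Set.disjoint_left.mpr fun v h1 h2 => hO2z v h2 (hO1z v h1)), hO1, hO2]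
      · norm_num
      rintro (⟨n, -, hn⟩ | ⟨n, -, hn⟩)
      · exact hz'1 (conj_eq_one_iff.mp hn)
      · exact ht1 (conj_eq_one_iff.mp hn)
  have hAsplit : (A : Set G) =
      insert 1 ({v | v ∈ O1 ∧ Commute v x} ∪ {v | v ∈ O2 ∧ Commute v x}) := by
    ext v
    constructor
    · rintro ⟨hv, hvx⟩
      rcases hcover.ge hv with rfl | h | h
      exacts [Or.inl rfl, Or.inr (Or.inl ⟨h, mem_cz.mp hvx⟩), Or.inr (Or.inr ⟨h, mem_cz.mp hvx⟩)]
    · rintro (rfl | ⟨h, hc⟩ | ⟨h, hc⟩)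
      · exact one_mem A
      · exact ⟨hcover.le (Or.inr (Or.inl h)), mem_cz.mpr hc⟩
      · exact ⟨hcover.le (Or.inr (Or.inr h)), mem_cz.mpr hc⟩
  have hAcard : Nat.card ↥A = 1 + k₁ + k₂ := by
    rw [← SetLike.coe_sort_coe, Nat.card_coe_set_eq, hAsplit, Set.ncard_insert_of_notMem,
      Set.ncard_union_eq (Set.disjoint_left.mpr fun v h1 h2 => hO2z v h2.1 (hO1z v h1.1))]
    · change Set.ncard {v | (∃ n ∈ N, n * z' * n⁻¹ = v) ∧ Commute v x} +
        Set.ncard {v | (∃ n ∈ N, n * t * n⁻¹ = v) ∧ Commute v x} + 1 = _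
      rw [hk₁, hk₂]; ring
    rintro (⟨⟨n, -, hn⟩, -⟩ | ⟨⟨n, -, hn⟩, -⟩)
    · exact hz'1 (conj_eq_one_iff.mp hn)
    · exact ht1 (conj_eq_one_iff.mp hn)
  have h1633 : 1 + k₁ + k₂ = 8 ∧ ((k₁ = 1 ∧ k₂ = 6) ∨ (k₁ = 6 ∧ k₂ = 1)) := by
    have hpow : 1 + k₁ + k₂ = 2 ^ a := hAcard.symm.trans ha
    have hle : a ≤ 6 := (Nat.pow_le_pow_iff_right (by norm_num : 1 < 2)).mp (by
      rw [← hpow]
      rcases dvd_240 hk₁d hk₁5 with h | h | h <;>
        rcases dvd_240 hk₂d hk₂5 with h' | h' | h' <;> simp only [h, h'] <;> norm_num)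
    rcases dvd_240 hk₁d hk₁5 with rfl | rfl | rfl <;>
      rcases dvd_240 hk₂d hk₂5 with rfl | rfl | rfl <;>
        interval_cases a <;> omega
  -- the stabiliser of `t₁`
  have ht₁V : t₁ ∈ V := ht₁A.1
  have ht₁n : ¬ IsConj z t₁ := hO2z t₁ ⟨n₁, hn₁, ht₁⟩
  have ht₁1 : t₁ ≠ 1 := by rw [← ht₁]; exact fun h => ht1 (conj_eq_one_iff.mp h)
  have ht₁o : orderOf t₁ = 2 := orderOf_eq_prime (by rw [sq, hsq _ ht₁V]) ht₁1
  have hct₁ : cz t₁ ≤ N := by
    intro d hd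
    have hd' : n₁⁻¹ * d * n₁ ∈ N := by
      refine hct (mem_centralizer_single.mpr ?_)
      have := (mem_cz.mp hd).map (MulAut.conj n₁⁻¹)
      simp only [MulAut.conj_apply, inv_inv] at this
      rwa [← ht₁, show n₁⁻¹ * (n₁ * t * n₁⁻¹) * n₁ = t by group] at this
    simpa [mul_assoc] using mul_mem (mul_mem hn₁ hd') (inv_mem hn₁)
  obtain ⟨V', K', hV'le, hK', hn', hV', hV'c, hinf', hsup', ⟨iso'⟩⟩ := I.second t₁ ht₁o ht₁n
  obtain ⟨χ, hχ, hχk⟩ := quot_hom hK' hn' hinf' hsup' iso'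
  have hxt₁ : x ∈ cz t₁ := mem_cz.mpr (mem_cz.mp ht₁A.2).symm
  obtain ⟨hb', hstab1⟩ := card_norm_inside hV'le hV'c hχ hχk hxt₁ hx
  rw [F5.norm _ hb', show cz t₁ ⊓ Subgroup.normalizer ((Subgroup.zpowers x : Subgroup G) : Set G) =
    Nx ⊓ cz t₁ from le_antisymm (fun d hd => ⟨⟨hct₁ hd.1, hd.2⟩, hd.1⟩)
      (fun d hd => ⟨hd.2, hd.1.2⟩)] at hstab1
  obtain ⟨a', ha'⟩ := ((IsPGroup.of_card hV'c).to_le (inf_le_left : V' ⊓ cz x ≤ V')).exists_card_eq
  have hk₂6 : k₁ = 1 ∧ k₂ = 6 := by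
    refine h1633.2.resolve_right fun h => ?_
    rw [h.2, hstab1, ha', hAcard, h1633.1, one_mul] at hmul₂
    have : a' < 6 := (Nat.pow_lt_pow_iff_right (by norm_num : 1 < 2)).mp (by omega)
    interval_cases a' <;> omega
  refine ⟨hAcard.trans h1633.1, ?_, hsq, ?_⟩
  · rw [← hk₂6.1, ← hk₁]
    congr 1
    ext v
    constructor
    · rintro ⟨⟨hv, hvx⟩, hc⟩
      rcases hcover.ge hv with rfl | h | h
      · obtain ⟨g, hg⟩ := isConj_iff.mp hc
        exact absurd (conj_eq_one_iff.mp hg) S.z_ne_one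
      · exact ⟨h, mem_cz.mp hvx⟩
      · exact absurd hc (hO2z v h)
    · rintro ⟨h, hc⟩
      exact ⟨⟨hcover.le (Or.inr (Or.inl h)), mem_cz.mpr hc⟩, hO1z v h⟩
  · have := Fact.mk Nat.prime_three
    obtain ⟨⟨c, hcN⟩, hc3⟩ := exists_prime_orderOf_dvd_card' (G := ↥Nx) 3
      (by rw [hNx]; exact dvd_mul_of_dvd_left (by norm_num) _)
    rw [Subgroup.orderOf_mk] at hc3
    refine ⟨c, hc3, ?_, hcN.1⟩
    obtain ⟨i, hi⟩ := (Subgroup.mem_normalizer_iff.mp hcN.2 x).mp (Subgroup.mem_zpowers x)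
    have hi' : x ^ i = c * x * c⁻¹ := hi
    have hpow : ∀ l : ℕ, c ^ l * x * (c ^ l)⁻¹ = x ^ (i ^ l) := by
      intro l
      induction l with
      | zero => simp
      | succ m ih =>
        rw [pow_succ', show c * c ^ m * x * (c * c ^ m)⁻¹ = c * (c ^ m * x * (c ^ m)⁻¹) * c⁻¹ by
          group, ih, ← conj_zpow, ← hi', ← zpow_mul, ← pow_succ']
    have h3 := hpow 3
    rw [show c ^ 3 = 1 by rw [← hc3, pow_orderOf_eq_one], one_mul, inv_one, mul_one] at h3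
    have h1 : x ^ (1 : ℤ) = x ^ (i ^ 3) := by rwa [zpow_one]
    rw [zpow_eq_zpow_iff_modEq, hx] at h1
    have hmod : i ≡ 1 [ZMOD (5 : ℕ)] := by
      rw [← ZMod.intCast_eq_intCast_iff] at h1 ⊢
      push_cast at h1 ⊢
      exact zmod_five _ h1.symm
    rw [← hx, ← zpow_eq_zpow_iff_modEq, zpow_one, hi'] at hmod
    exact mul_inv_eq_iff_eq_mul.mp hmod

/-- `|C(t) ∩ C(x)|` divides 80 for an involution not conjugate to `z`. -/
theorem card_cent_second (S : Setting z p) (F5 : FiveFacts) (I : Inputs z) (hx : orderOf x = 5)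
    {t : G} (ht : orderOf t = 2) (htn : ¬ IsConj z t) (hxt : Commute x t) :
    Nat.card ↥(cz t ⊓ cz x) ∣ 80 ∧ ∃ A : Subgroup G, A ≤ cz t ⊓ cz x ∧ t ∈ A ∧
      Nat.card ↥A = 8 ∧ (∀ a ∈ A, a * a = 1) ∧ Set.ncard {v | v ∈ A ∧ IsConj z v} = 1 ∧
      ∃ c, orderOf c = 3 ∧ Commute c x ∧ ∀ a ∈ A, c * a * c⁻¹ ∈ A := by
  classical
  obtain ⟨V, K, hVle, hK, hn, hV, hVc, hinf, hsup, ⟨iso⟩⟩ := I.second t ht htn
  have hxC : x ∈ cz t := mem_cz.mpr hxt
  obtain ⟨h8, huniq, hsq, c, hc3, hcx, hcV⟩ := fixed_space S F5 I hx hV hVc (hn hxC)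
  have htV : t ∈ V := (I.split V hV hVc).1 (Subgroup.mem_centralizer_iff.mpr fun v hv =>
    (mem_cz.mp (hVle hv)).eq)
  obtain ⟨χ, hχ, hχk⟩ := quot_hom hK hn hinf hsup iso
  obtain ⟨hb, -⟩ := card_norm_inside hVle hVc hχ hχk hxC hx
  refine ⟨?_, V ⊓ cz x, inf_le_inf_right _ hVle, ⟨htV, mem_cz.mpr hxt.symm⟩, h8,
    fun a ha => hsq a ha.1, huniq, c, hc3, hcx, fun a ha => ⟨?_, mem_cz.mpr ?_⟩⟩
  · let m : ↥(cz t ⊓ cz x) →* AutM22 := χ.comp (Subgroup.inclusion inf_le_left)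
    have hrange : m.range ≤ Subgroup.centralizer ({χ ⟨x, hxC⟩} : Set AutM22) := by
      rintro _ ⟨d, rfl⟩
      refine mem_centralizer_single.mpr ?_
      show χ _ * χ _ = χ _ * χ _
      rw [← map_mul, ← map_mul]
      exact congrArg χ (Subtype.ext (mem_cz.mp d.2.2).eq)
    have hker : Nat.card ↥m.ker = Nat.card ↥(V ⊓ cz x) :=
      Nat.card_congr ⟨fun d => ⟨d.1.1, (hχk _).mp d.2, d.1.2.2⟩,
        fun v => ⟨⟨v.1, hVle v.2.1, v.2.2⟩, (hχk _).mpr v.2.1⟩, fun _ => rfl, fun _ => rfl⟩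
    have h := Subgroup.card_mul_index m.ker
    rw [Subgroup.index_ker, hker, h8] at h
    rw [← h, show (80 : ℕ) = 8 * 10 by norm_num]
    refine Nat.mul_dvd_mul_left _ ?_
    rw [← F5.cent _ hb]
    exact Subgroup.card_dvd_of_le hrange
  · exact (Subgroup.mem_normalizer_iff.mp hcV a).mp ha.1
  · exact (hcx.mul_left (mem_cz.mp ha.2)).mul_left hcx.inv_left

end Cfsg.Agent.Lib.J4Five
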