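import Cfsg.Agent.Lib.J4Five.Fix
import Cfsg.Agent.Lib.J4Local.AutFacts

/-!
# Proof of the finite facts about elements of order five

A certified search gives the centralizer of one element in `Aut M22` and in `M24`.
-/

set_option autoImplicit false
set_option linter.style.haveILetI false

namespace Cfsg.Agent.Lib.J4Five

open Cfsg Cfsg.Agent.Lib.Golay Cfsg.Agent.Lib.Computation
open Cfsg.Agent.Lib.J4Local
open Cfsg.Agent.Lib.J4Local.AutModel
open Cfsg.Agent.Lib.J4Local.AutLocal
open Cfsg.Agent.Lib.J4Local.AutSylow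
open Cfsg.Agent.Lib.J4Local.AutTwo
open Cfsg.Agent.Lib.FusionAlperin.MathieuCert

namespace FiveData

/-- An inner element of order five. -/
def aCode : ℕ := 960156843662149623082170321720688032
/-- An outer element centralising it. -/
def wCode : ℕ := 1640439382307133270442725345777879
/-- An element of order four sending it to its square. -/
def vCode : ℕ := 2169526219516607485579034280136311

/-- The search levels in `M22`. -/
def levA : List OutTrivial.Level :=
  [⟨23, 1, [(23, 0)], []⟩,
   ⟨0, 1, [(0, 0)], []⟩,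
   ⟨1, 5, [(1, 0), (13, 1), (2, 2), (15, 3), (14, 4)], []⟩,
   ⟨3, 5, [(3, 0), (19, 1), (6, 2), (20, 3), (22, 4)], [14213199]⟩,
   ⟨4, 5, [(4, 0), (11, 1), (12, 2), (16, 3), (7, 4)], [90318, 555160, 1103886, 4253780]⟩,
   ⟨5, 5, [(5, 0), (17, 1), (18, 2), (9, 3), (10, 4)], [5279, 18147, 42232, 133817, 272595]⟩,
   ⟨8, 1, [(8, 0)], [10558]⟩,
   ⟨21, 1, [(21, 0)], [2101096]⟩]

/-- The search levels in `M24`. -/
def levB : List OutTrivial.Level :=
  [⟨1, 5, [(1, 0), (13, 1), (2, 2), (15, 3), (14, 4)], []⟩,
   ⟨3, 5, [(3, 0), (19, 1), (6, 2), (20, 3), (22, 4)], []⟩,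
   ⟨4, 5, [(4, 0), (11, 1), (12, 2), (16, 3), (7, 4)], [90318, 555160, 1103886, 4253780]⟩,
   ⟨5, 5, [(5, 0), (17, 1), (18, 2), (9, 3), (10, 4)], [21116, 42232, 138790, 277580]⟩,
   ⟨0, 1, [(0, 0)], [5279]⟩,
   ⟨8, 1, [(8, 0)], [10558]⟩,
   ⟨21, 1, [(21, 0)], [2101096]⟩,
   ⟨23, 1, [(23, 0)], [8391797]⟩]

/-- The centralizer in `M24`. -/
def cent24 : List ℕ :=
  [1640439382307133270442725345777879,
   2167783000379855003867540061855112,
   2248916398741502454267746603944117,
   2937706282437028759679700453281495,
   3465055552431752005473530449210600,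
   3546177899551648733274385895893589,
   17201354511543436354546062198902423,
   17728710820595515779995207577178632,
   17809845521945824402123259203626549,
   18517102594336618380971257042621047,
   19044436550080704176809212100264296,
   19125567765355793207242944168379733,
   19798220472191287363857946265458807,
   20325562069951652701139951052861576,
   20406702618972492516525102550422837,
   337508647733539386657465384085858901,
   338360517785061908292925768200474327,
   338441640156903194715658257258888608,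
   341414252769631414008646044767888949,
   342266120759026757289553350031969943,
   342347255484459199327237018028738592,
   346591538385663277943819775083156789,
   347443393669025289609083187311810679,
   347524534224520406971063898138359872,
   347898128912110130374820955379221845,
   348749978775883380147607510822965879,
   348831109994023145490367929063572960,
   353091558431040872920591276360059061,
   353943439102719699926574910353430743,
   354024572482716510521930401257338304,
   878809650792062518743291379201921655,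
   879134166724428872096375435350803936,
   879742631889323105384609696905216360,
   884011558934270912814582102765162199,
   884336079750109315754095481558744480,
   884944551369625090793707648329264360,
   885298715327061342268160233691060343,
   885623229004393383339981350052739136,
   886231711156688137486153050178629768,
   894379830456538949394130085617424599,
   894704367494629964943373258537383360,
   895312844512128705639747372375940488,
   895693170450248876354672268591533719,
   896017682161245154393060005276583968,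
   896626173150074518941058243815051784,
   959304973613028256512727418933980392,
   959629494404145269757309164115831381,
   960156843662149623082170321720688032,
   963196042053206348616129554228593000,
   963520557982708025656886924204983637,
   964047891923104539926953535243683296,
   980050645939839870575524189773705352,
   980375159610697634100749746806396213,
   980902501217688333247283058161432640,
   981351832794675702523283657349340552,
   981676369851131554927571545907480757,
   982203713465290158016718198762321344,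
   983966376524786161323062775728149000,
   984290888211700305945894896042878517,
   984818244535754528103549039458486304]

/-- The powers of the element. -/
def powers : List ℕ := (List.range 5).map fun i => OutTrivial.cpow aCode i

/-- The checks. -/
def fiveOk : Bool :=
  inBig aCode && Nat.beq (getW 5 aCode 23) 23 && !(Nat.beq (canon aCode) oneCode) &&
    Nat.beq (OutTrivial.cpow aCode 5) oneCode &&
    ((List.range 5).all fun i => inBig (OutTrivial.cpow aCode i)) &&
    inBig wCode && !(Nat.beq (getW 5 wCode 23) 23) &&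
    Nat.beq (mulP 24 5 wCode aCode) (mulP 24 5 aCode wCode) &&
    inBig vCode && Nat.beq (mulP 24 5 vCode aCode) (mulP 24 5 (OutTrivial.cpow aCode 2) vCode) &&
    inBig (mulP 24 5 vCode vCode) &&
    Nat.beq (mulP 24 5 (mulP 24 5 vCode vCode) (mulP 24 5 vCode vCode)) oneCode &&
    OutTrivial.searchOk OutTrivial.M22Cert.data.spec aCode aCode powers levA &&
    OutTrivial.searchOk ⟨[], []⟩ aCode aCode cent24 levB &&
    cent24.all fun u => inM24 u && Nat.beq (canon u) u &&
      Nat.beq (mulP 24 5 u aCode) (mulP 24 5 aCode u)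

theorem fiveOk_eq : fiveOk = true := by decide +kernel

theorem cent24_nodup : cent24.Nodup ∧ cent24.length = 60 := by decide +kernel

theorem spec : inBig aCode = true ∧ getW 5 aCode 23 = 23 ∧ canon aCode ≠ oneCode ∧
    OutTrivial.cpow aCode 5 = oneCode ∧
    (∀ i < 5, inBig (OutTrivial.cpow aCode i) = true) ∧
    inBig wCode = true ∧ getW 5 wCode 23 ≠ 23 ∧
    mulP 24 5 wCode aCode = mulP 24 5 aCode wCode ∧
    inBig vCode = true ∧ mulP 24 5 vCode aCode = mulP 24 5 (OutTrivial.cpow aCode 2) vCode ∧
    inBig (mulP 24 5 vCode vCode) = true ∧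
    mulP 24 5 (mulP 24 5 vCode vCode) (mulP 24 5 vCode vCode) = oneCode ∧
    OutTrivial.searchOk OutTrivial.M22Cert.data.spec aCode aCode powers levA = true ∧
    OutTrivial.searchOk ⟨[], []⟩ aCode aCode cent24 levB = true ∧
    ∀ u ∈ cent24, inM24 u = true ∧ canon u = u ∧ mulP 24 5 u aCode = mulP 24 5 aCode u := by
  have h := fiveOk_eq
  simp only [fiveOk, Bool.and_eq_true, Bool.not_eq_true', List.all_eq_true, List.mem_range,
    Nat.beq_eq, Bool.eq_false_iff, ne_eq] at h
  obtain ⟨⟨⟨⟨⟨⟨⟨⟨⟨⟨⟨⟨⟨⟨h1, h2⟩, h3⟩, h4⟩, h5⟩, h6⟩, h7⟩, h8⟩, h9⟩, h10⟩, h11⟩, h12⟩,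
    h13⟩, h14⟩, h15⟩ := h
  exact ⟨h1, h2, h3, h4, h5, h6, h7, h8, h9, h10, h11, h12, h13, h14,
    fun u hu => ⟨(h15 u hu).1.1, (h15 u hu).1.2, (h15 u hu).2⟩⟩

theorem inBig_inM24 {c : ℕ} (h : inBig c = true) : inM24 c = true := by
  simp only [inBig, Bool.and_eq_true] at h
  exact h.1

/-- The element of order five. -/
noncomputable def aA : AutM22 := aut aCode

theorem aut_cpow : ∀ i ≤ 5, inBig (OutTrivial.cpow aCode i) = true →
    aut (OutTrivial.cpow aCode i) = aA ^ i := by
  intro i
  induction i with
  | zero => exact fun _ _ => by rw [pow_zero]; exact aut_one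
  | succ n ih =>
    intro hn hb
    rw [pow_succ', ← ih (by omega) (spec.2.2.2.2.1 n (by omega))]
    exact (aut_mul spec.1 (spec.2.2.2.2.1 n (by omega)) hb rfl).symm

theorem aA_ne : aA ≠ 1 := by
  intro h
  obtain ⟨h1, -, h3, -⟩ := spec
  rw [aA, aut_eq h1, map_eq_one_iff toAut toAut.injective] at h
  have h' : gperm aCode = gperm oneCode := by
    rw [gperm_oneCode]; exact congrArg Subtype.val h
  have hone : inBig oneCode = true := by decide +kernel
  have hc : canon aCode = aCode ∧ canon oneCode = oneCode := by decide +kernel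
  exact h3 (by rw [hc.1]; exact eq_of_gperm (inBig_spec h1).1 (inBig_spec hone).1 hc.1 hc.2 h')

theorem order_aA : orderOf aA = 5 := by
  haveI := Fact.mk Nat.prime_five
  refine orderOf_eq_prime ?_ aA_ne
  rw [← aut_cpow 5 le_rfl (by rw [spec.2.2.2.1]; decide +kernel), spec.2.2.2.1, aut_one]

theorem aA_mem_inn : aA ∈ inn := (aut_mem_inn spec.1).mpr spec.2.1

theorem w_spec : aut wCode ∉ inn ∧ aut wCode * aA = aA * aut wCode :=
  ⟨fun h => spec.2.2.2.2.2.2.1 ((aut_mem_inn spec.2.2.2.2.2.1).mp h),
    aut_commute spec.2.2.2.2.2.1 spec.1 spec.2.2.2.2.2.2.2.1⟩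

theorem v_spec : aut vCode * aA * (aut vCode)⁻¹ = aA ^ 2 := by
  obtain ⟨h1, -, -, -, h5, -, -, -, h9, h10, -⟩ := spec
  rw [← aut_cpow 2 (by norm_num) (h5 2 (by norm_num))]
  exact aut_conj h9 h1 (h5 2 (by norm_num)) h10

theorem v_four : aut vCode ^ 4 = 1 := by
  obtain ⟨-, -, -, -, -, -, -, -, h9, -, h11, h12, -⟩ := spec
  have h1 := aut_mul h9 h9 h11 rfl
  rw [show aut vCode ^ 4 = (aut vCode * aut vCode) * (aut vCode * aut vCode) by
    rw [← sq, ← sq, ← pow_mul], h1, aut_mul h11 h11 (by rw [← h12]; rw [h12]; decide +kernel) h12,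
    aut_one]

theorem cent_inn_a : inn ⊓ Subgroup.centralizer ({aA} : Set AutM22) = Subgroup.zpowers aA := by
  refine le_antisymm ?_ ((Subgroup.zpowers_le).mpr ⟨aA_mem_inn,
    Subgroup.mem_centralizer_singleton_iff.mpr rfl⟩)
  rintro x ⟨hx, hxc⟩
  have hc := Subgroup.mem_centralizer_singleton_iff.mp hxc
  obtain ⟨g, rfl⟩ := toAut.surjective x
  have hn : (g : Equiv.Perm GolayPt) none = none := (toAut_mem_inn g).mp hx
  rw [aA, aut_eq spec.1, ← map_mul, ← map_mul] at hc
  have hc' : (g : Equiv.Perm GolayPt) * gperm aCode = gperm aCode * g :=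
    congrArg Subtype.val (toAut.injective hc)
  obtain ⟨m1, m2, m3⟩ := mem_m22.mp ((mem_m22_iff g.2).mpr hn)
  have hholds : OutTrivial.M22Cert.data.spec.Holds (g : Equiv.Perm GolayPt) := by
    refine ⟨m1, fun i hi => ?_, fun m hm => ?_⟩
    · simp only [OutTrivial.M22Cert.data, List.mem_cons, List.not_mem_nil, or_false] at hi
      rcases hi with rfl | rfl
      · rw [show pt 23 = none from rfl, m2]; rfl
      · rw [show pt 0 = some 0 from rfl, m3]; rfl
    · simp [OutTrivial.M22Cert.data] at hm
  obtain ⟨u, hu, hue⟩ := OutTrivial.searchOk_spec spec.2.2.2.2.2.2.2.2.2.2.2.2.1 hholds hc'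
  simp only [powers, List.mem_map, List.mem_range] at hu
  obtain ⟨i, hi, rfl⟩ := hu
  have hu' := spec.2.2.2.2.1 i hi
  have : toAut g = aA ^ i := by
    rw [← aut_cpow i hi.le hu', aut_eq hu']
    exact congrArg toAut (Subtype.ext hue)
  rw [this]
  exact Subgroup.npow_mem_zpowers aA i

theorem card_cent_inn_a : Nat.card ↥(inn ⊓ Subgroup.centralizer ({aA} : Set AutM22)) = 5 := by
  rw [cent_inn_a, Nat.card_zpowers, order_aA]

theorem card_cent_a : Nat.card ↥(Subgroup.centralizer ({aA} : Set AutM22)) = 10 := by
  rw [card_double (Subgroup.mem_centralizer_singleton_iff.mpr w_spec.2) w_spec.1, inf_comm,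
    card_cent_inn_a]

/-- The element of order five in `M24`. -/
noncomputable def aP : Cfsg.M24 := ⟨gperm aCode, gperm_mem_M24 (inBig_inM24 spec.1)⟩

theorem order_aP : orderOf aP = 5 := by
  haveI := Fact.mk Nat.prime_five
  refine orderOf_eq_prime (Subtype.ext ?_) fun h => aA_ne ?_
  · have key : ∀ n ≤ 5, inBig (OutTrivial.cpow aCode n) = true →
        gperm (OutTrivial.cpow aCode n) = gperm aCode ^ n := by
      intro n
      induction n with
      | zero => exact fun _ _ => gperm_oneCode
      | succ k ih =>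
        intro hk _
        have hk' := spec.2.2.2.2.1 k (by omega)
        rw [pow_succ', ← ih (by omega) hk', ← gperm_mul (inBig_spec spec.1).1 (inBig_spec hk').1]
        rfl
    show gperm aCode ^ 5 = 1
    rw [← key 5 le_rfl (by rw [spec.2.2.2.1]; decide +kernel), spec.2.2.2.1, gperm_oneCode]
  · rw [aA, aut_eq spec.1, map_eq_one_iff toAut toAut.injective]
    exact Subtype.ext ((congrArg Subtype.val h : gperm aCode = 1))

theorem card_cent_p : Nat.card ↥(Subgroup.centralizer ({aP} : Set Cfsg.M24)) = 60 := by
  classical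
  have hall := spec.2.2.2.2.2.2.2.2.2.2.2.2.2.2
  have hset : ((cent24.toFinset.image gperm : Finset (Equiv.Perm GolayPt)) :
      Set (Equiv.Perm GolayPt)) =
      ((Subgroup.centralizer ({aP} : Set Cfsg.M24)).map (Cfsg.M24).subtype :
        Set (Equiv.Perm GolayPt)) := by
    ext g
    simp only [Finset.coe_image, Set.mem_image, List.coe_toFinset, Set.mem_setOf_eq,
      Subgroup.coe_map]
    constructor
    · rintro ⟨u, hu, rfl⟩
      obtain ⟨hu1, -, hu3⟩ := hall u hu
      refine ⟨⟨gperm u, gperm_mem_M24 hu1⟩, ?_, rfl⟩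
      refine Subgroup.mem_centralizer_singleton_iff.mpr (Subtype.ext ?_)
      show gperm u * gperm aCode = gperm aCode * gperm u
      rw [← gperm_mul (okCode_of_inM24 hu1) (inBig_spec spec.1).1, hu3,
        gperm_mul (inBig_spec spec.1).1 (okCode_of_inM24 hu1)]
    · rintro ⟨x, hx, rfl⟩
      obtain ⟨u, hu, hue⟩ := OutTrivial.searchOk_spec spec.2.2.2.2.2.2.2.2.2.2.2.2.2.1
        (g := (x : Equiv.Perm GolayPt)) ⟨x.2, fun i hi => by simp at hi, fun m hm => by simp at hm⟩
        (congrArg Subtype.val (Subgroup.mem_centralizer_singleton_iff.mp hx))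
      exact ⟨u, hu, hue.symm⟩
  rw [← Subgroup.card_map_of_injective (Subgroup.subtype_injective Cfsg.M24),
    ← SetLike.coe_sort_coe, ← hset, Nat.card_coe_set_eq, Set.ncard_coe_finset,
    Finset.card_image_of_injOn, List.toFinset_card_of_nodup cent24_nodup.1, cent24_nodup.2]
  intro u hu u' hu' h
  simp only [List.coe_toFinset, Set.mem_setOf_eq] at hu hu'
  exact eq_of_gperm (okCode_of_inM24 (hall u hu).1) (okCode_of_inM24 (hall u' hu').1)
    (hall u hu).2.1 (hall u' hu').2.1 h

/-- The element sending it to its square, in `M24`. -/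
noncomputable def vP : Cfsg.M24 := ⟨gperm vCode, gperm_mem_M24 (inBig_inM24 spec.2.2.2.2.2.2.2.2.1)⟩

theorem vP_spec : vP * aP * vP⁻¹ = aP * aP := by
  obtain ⟨h1, -, -, -, h5, -, -, -, h9, h10, -⟩ := spec
  rw [mul_inv_eq_iff_eq_mul]
  refine Subtype.ext ?_
  show gperm vCode * gperm aCode = gperm aCode * gperm aCode * gperm vCode
  have h2 : gperm (OutTrivial.cpow aCode 2) = gperm aCode * gperm aCode := by
    rw [show OutTrivial.cpow aCode 2 = mulP 24 5 aCode (OutTrivial.cpow aCode 1) from rfl,
      gperm_mul (inBig_spec h1).1 (inBig_spec (h5 1 (by norm_num))).1,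
      show OutTrivial.cpow aCode 1 = mulP 24 5 aCode oneCode from rfl,
      gperm_mul (inBig_spec h1).1 okCode_oneCode, gperm_oneCode, mul_one]
  rw [← h2, ← gperm_mul (inBig_spec h9).1 (inBig_spec h1).1, h10,
    gperm_mul (inBig_spec (h5 2 (by norm_num))).1 (inBig_spec h9).1]

/-- The normaliser, from the centralizer and one element giving the square. -/
theorem card_normalizer {W : Type*} [Group W] [Finite W] {a v : W} (ha : orderOf a = 5)
    (hv : v * a * v⁻¹ = a * a) :
    Nat.card ↥(Subgroup.normalizer ((Subgroup.zpowers a : Subgroup W) : Set W)) =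
      4 * Nat.card ↥(Subgroup.centralizer ({a} : Set W)) := by
  classical
  set N := Subgroup.normalizer ((Subgroup.zpowers a : Subgroup W) : Set W)
  have hvN : v ∈ N := mem_normalizer_of_le (by
    rintro _ ⟨k, rfl⟩
    rw [← conj_zpow, hv]
    exact zpow_mem (mul_mem (Subgroup.mem_zpowers a) (Subgroup.mem_zpowers a)) k)
  have hpow : ∀ i : ℕ, v ^ i * a * (v ^ i)⁻¹ = a ^ (2 ^ i) := by
    intro i
    induction i with
    | zero => simp
    | succ m ih =>
      rw [pow_succ', show v * v ^ m * a * (v * v ^ m)⁻¹ = v * (v ^ m * a * (v ^ m)⁻¹) * v⁻¹ by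
        group, ih, ← conj_pow, hv, ← sq, ← pow_mul, ← pow_succ']
  have himg : (fun n => n * a * n⁻¹) '' (N : Set W) =
      (Subgroup.zpowers a : Set W) \ {1} := by
    ext y
    constructor
    · rintro ⟨n, hn, rfl⟩
      refine ⟨(Subgroup.mem_normalizer_iff.mp hn a).mp (Subgroup.mem_zpowers a), fun h => ?_⟩
      rw [conj_eq_one_iff.mp h, orderOf_one] at ha
      norm_num at ha
    · rintro ⟨hy, hy1⟩
      obtain ⟨k, hk, rfl⟩ := mem_zpowers_iff_mem_range_orderOf.mp hy |> Finset.mem_image.mp
      rw [Finset.mem_range, ha] at hk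
      have h8 : a ^ (2 ^ 3) = a ^ 3 := by rw [← pow_mod_orderOf, ha]; norm_num
      interval_cases k
      · exact absurd (pow_zero a) hy1
      · exact ⟨1, one_mem _, by simp⟩
      · exact ⟨v ^ 1, pow_mem hvN _, by simpa using hpow 1⟩
      · exact ⟨v ^ 3, pow_mem hvN _, (hpow 3).trans h8⟩
      · exact ⟨v ^ 2, pow_mem hvN _, hpow 2⟩
  have hle : Subgroup.centralizer ({a} : Set W) ≤ N := by
    rw [← Subgroup.centralizer_closure, ← Subgroup.zpowers_eq_closure]
    exact Subgroup.centralizer_le_normalizer _
  have h := card_orbit N a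
  rw [himg, inf_eq_right.mpr hle, Set.ncard_sdiff_singleton_of_mem (one_mem _),
    ← Nat.card_coe_set_eq, SetLike.coe_sort_coe, Nat.card_zpowers, ha] at h
  exact h

/-- Everything transfers from one subgroup of order five. -/
theorem transfer {W : Type*} [Group W] [Finite W] (h25 : ¬ 25 ∣ Nat.card W) {a b : W}
    (ha : orderOf a = 5) (hb : orderOf b = 5) : ∃ h : W,
    (Subgroup.zpowers a).map (MulAut.conj h).toMonoidHom = Subgroup.zpowers b ∧
    (Subgroup.centralizer ({a} : Set W)).map (MulAut.conj h).toMonoidHom =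
      Subgroup.centralizer ({b} : Set W) := by
  obtain ⟨h, hh⟩ := conj_zpowers_five h25 ha hb
  have hz : Subgroup.zpowers (h * a * h⁻¹) = Subgroup.zpowers b :=
    zpowers_eq_of_five ((MulEquiv.orderOf_eq (MulAut.conj h) a).trans ha) hb hh
  refine ⟨h, ?_, ?_⟩
  · rw [MonoidHom.map_zpowers]
    exact hz
  · have hc : Subgroup.centralizer ({h * a * h⁻¹} : Set W) = Subgroup.centralizer ({b} : Set W) := by
      rw [← Subgroup.centralizer_closure, ← Subgroup.zpowers_eq_closure, hz,
        Subgroup.zpowers_eq_closure, Subgroup.centralizer_closure]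
    rw [← hc]
    ext y
    rw [Subgroup.mem_map_equiv, Subgroup.mem_centralizer_singleton_iff,
      Subgroup.mem_centralizer_singleton_iff, MulAut.conj_symm_apply]
    constructor
    · intro hy
      calc y * (h * a * h⁻¹) = h * (h⁻¹ * y * h * a) * h⁻¹ := by group
        _ = h * (a * (h⁻¹ * y * h)) * h⁻¹ := by rw [hy]
        _ = _ := by group
    · intro hy
      calc h⁻¹ * y * h * a = h⁻¹ * (y * (h * a * h⁻¹)) * h := by group
        _ = h⁻¹ * (h * a * h⁻¹ * y) * h := by rw [hy]
        _ = _ := by group

theorem order_v : orderOf (aut vCode) = 4 := by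
  haveI := Fact.mk Nat.prime_two
  refine orderOf_eq_prime_pow (p := 2) (n := 1) (fun h => ?_) v_four
  have hv := v_spec
  have : (aut vCode) ^ 2 * aA * ((aut vCode) ^ 2)⁻¹ = aA ^ 4 := by
    rw [pow_two, show aut vCode * aut vCode * aA * (aut vCode * aut vCode)⁻¹ =
      aut vCode * (aut vCode * aA * (aut vCode)⁻¹) * (aut vCode)⁻¹ by group, hv, ← conj_pow, hv,
      ← pow_mul]
  rw [pow_one] at h
  rw [h, one_mul, inv_one, mul_one] at this
  have h1 : aA ^ 1 = aA ^ 4 := by rwa [pow_one]
  rw [pow_eq_pow_iff_modEq, order_aA] at h1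
  norm_num [Nat.ModEq] at h1

end FiveData

open FiveData in
/-- The finite facts hold. -/
theorem fiveFacts : FiveFacts := by
  have hA : ¬ 25 ∣ Nat.card AutM22 := by rw [AutModel.card_autM22]; norm_num
  have hM : ¬ 25 ∣ Nat.card Cfsg.M24 := by rw [Cfsg.Agent.Lib.Golay.card_M24]; norm_num
  refine ⟨fun a ha => ?_, fun a ha => ?_, fun a ha => ?_, fun a ha => ?_,
    ⟨aA, aut vCode, order_aA, order_v, by rw [v_spec, sq]⟩⟩
  · obtain ⟨g, -, hg⟩ := transfer hA order_aA ha
    rw [← hg, card_conj, card_cent_a]
  · obtain ⟨g, -, hg⟩ := transfer hA order_aA ha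
    have hi : inn.map (MulAut.conj g).toMonoidHom = inn := by
      haveI := inn_normal
      exact Subgroup.Normal.map_conj_eq inn g
    rw [← hg, ← hi, ← Subgroup.map_inf _ _ _ (MulAut.conj g).injective, card_conj, card_cent_inn_a]
  · obtain ⟨g, hg, -⟩ := transfer hA order_aA ha
    rw [← hg, ← Subgroup.map_equiv_normalizer_eq, card_conj,
      FiveData.card_normalizer order_aA (v := aut vCode) (by rw [v_spec, sq]), card_cent_a]
  · obtain ⟨g, hg, -⟩ := transfer hM order_aP ha
    rw [← hg, ← Subgroup.map_equiv_normalizer_eq,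
      Subgroup.card_map_of_injective (MulAut.conj g).injective,
      FiveData.card_normalizer order_aP vP_spec, card_cent_p]

end Cfsg.Agent.Lib.J4Five
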