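import Cfsg.Agent.Lib.J4Five.Main
import Cfsg.Agent.Lib.J4Five.FactsProof
import Cfsg.Agent.Lib.J4Local.AutFacts
import Cfsg.Agent.Lib.J4Big.RowS5566

/-!
# S5572 from the three rows on the normaliser of `2^11` and on the second involution centralizer
-/

set_option autoImplicit false

namespace Cfsg.Agent.Lib.J4Five

open Cfsg.Agent.Lib.J4Local

/-- The 5-local structure, given the conclusions of S5567, S5568, S5569 for the group. -/
theorem five_of_rows {G : Type*} [Group G] [Finite G] [IsSimpleGroup G]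
    (hG : ¬ IsMulCommutative G) (z : G) (hJ : Cfsg.IsOfJankoFourTypeAt z)
    (h67 : ∀ V : Subgroup G, Cfsg.IsElementaryAbelian 2 V → Nat.card ↥V = 2 ^ 11 →
      Subgroup.centralizer (V : Set G) ≤ V ∧ ∃ K : Subgroup G,
        K ≤ Subgroup.normalizer (V : Set G) ∧ K ⊓ V = ⊥ ∧
        K ⊔ V = Subgroup.normalizer (V : Set G) ∧ Cfsg.Spor.IsoM24 ↥K)
    (h68 : ∀ V : Subgroup G, Cfsg.IsElementaryAbelian 2 V → Nat.card ↥V = 2 ^ 11 →
      ∃ z' t : G, z' ∈ V ∧ t ∈ V ∧ t ≠ 1 ∧ IsConj z z' ∧ ¬ IsConj z t ∧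
      Set.ncard {v : G | ∃ n ∈ Subgroup.normalizer (V : Set G), n * z' * n⁻¹ = v} = 1771 ∧
      Set.ncard {v : G | ∃ n ∈ Subgroup.normalizer (V : Set G), n * t * n⁻¹ = v} = 276 ∧
      Subgroup.centralizer ({t} : Set G) ≤ Subgroup.normalizer (V : Set G))
    (h69 : ∀ t : G, orderOf t = 2 → ¬ IsConj z t → ∃ V K : Subgroup G,
      V ≤ Subgroup.centralizer ({t} : Set G) ∧ K ≤ Subgroup.centralizer ({t} : Set G) ∧
      Subgroup.centralizer ({t} : Set G) ≤ Subgroup.normalizer (V : Set G) ∧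
      Cfsg.IsElementaryAbelian 2 V ∧ Nat.card ↥V = 2 ^ 11 ∧ K ⊓ V = ⊥ ∧
      K ⊔ V = Subgroup.centralizer ({t} : Set G) ∧ Nonempty (↥K ≃* MulAut ↥Cfsg.Spor.M22))
    (S : Subgroup G) (hS : Nat.card ↥S = 5) (hSz : S ≤ Subgroup.centralizer ({z} : Set G)) :
    ¬ (25 ∣ Nat.card G) ∧
    (∃ J : Subgroup G, Cfsg.IsInternalDirectProduct S J (Subgroup.centralizer (S : Set G)) ∧
      ∃ (E : Subgroup ↥J) (_ : E.Normal), Cfsg.IsElementaryAbelian 2 E ∧ Nat.card ↥E = 8 ∧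
        Nonempty (↥J ⧸ E ≃* Matrix.SpecialLinearGroup (Fin 3) (ZMod 2)) ∧
        ∀ K : Subgroup ↥J, ¬ E.IsComplement' K) ∧
    (∃ R : Subgroup G, S ≤ R ∧ R ≤ Subgroup.normalizer (S : Set G) ∧ Nat.card ↥R = 20 ∧
      R ⊓ Subgroup.centralizer (S : Set G) = S) ∧
    Nat.card ↥(Subgroup.normalizer (S : Set G)) = 2 ^ 8 * 3 * 5 * 7 := by
  refine order_five_local hG hJ autFacts fiveFacts ⟨?_, h67, h68, h69⟩ S hS hSz
  obtain ⟨T⟩ := (inferInstance : Nonempty (Sylow 2 G))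
  obtain ⟨V, hV, -⟩ := J4Big.RowS5566.unique_of_facts autFacts ⟨z, hJ⟩ T
  exact ⟨V, hV.2.1, hV.2.2⟩

end Cfsg.Agent.Lib.J4Five
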