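import Cfsg.Agent.Lib.J4Five.Shape
import Cfsg.Agent.Lib.J4Seven.Count
import Cfsg.Agent.Lib.Involutions.Basic

/-!
# The centralizer of an element of order five

Its conjugates of `z` are the seven involutions of the line; it is the stabiliser of the line.
-/

set_option autoImplicit false
set_option linter.unusedSectionVars false

namespace Cfsg.Agent.Lib.J4Five

open Cfsg.Agent.Lib.J4Local
open Cfsg.Agent.Lib.LargeExtraspecial.Basic

variable {G : Type*} [Group G] [Finite G] {z p x e : G}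

/-- The inputs only depend on the class. -/
theorem Inputs.congr (I : Inputs z) {g : G} (h : IsConj z g) : Inputs g := by
  refine ⟨I.exists_big, I.split, fun V hV hc => ?_, fun t ht hn => ?_⟩
  · obtain ⟨z', t, h1, h2, h3, h4, h5, h6⟩ := I.orbits V hV hc
    exact ⟨z', t, h1, h2, h3, h.symm.trans h4, fun hc' => h5 (h.trans hc'), h6⟩
  · exact I.second t ht fun hc' => hn (h.symm.trans hc')

/-- An involution normalising an elementary abelian subgroup fixes a quarter at least. -/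
theorem fixed_quarter {L : Subgroup G} (h2 : ∀ a ∈ L, a * a = 1) {w : G} (hw : w * w = 1)
    (hn : ∀ a ∈ L, w * a * w⁻¹ ∈ L) :
    Nat.card ↥L ≤ Nat.card ↥(L ⊓ cz w) * Nat.card ↥(L ⊓ cz w) := by
  have hcomm : ∀ a ∈ L, ∀ b ∈ L, Commute a b := fun a ha b hb => commute_of_sq h2 ha hb
  let f : ↥L →* ↥(L ⊓ cz w) :=
    MonoidHom.mk' (fun a => ⟨(a : G) * (w * a * w⁻¹), mul_mem a.2 (hn a a.2), mem_cz.mpr (by
      show _ * w = w * _
      have hwi : w⁻¹ = w := inv_eq_of_mul_eq_one_right hw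
      have hc := hcomm a a.2 _ (hn a a.2)
      calc (a : G) * (w * a * w⁻¹) * w = (a : G) * (w * a) := by group
        _ = w * ((w⁻¹ * a * w) * a) := by group
        _ = w * ((w * a * w⁻¹) * a) := by rw [hwi]
        _ = w * ((a : G) * (w * a * w⁻¹)) := by rw [hc.eq])⟩)
      fun a b => Subtype.ext (by
        show (a : G) * b * (w * (a * b : G) * w⁻¹) =
          (a : G) * (w * a * w⁻¹) * ((b : G) * (w * b * w⁻¹))
        rw [show w * ((a : G) * b) * w⁻¹ = (w * a * w⁻¹) * (w * b * w⁻¹) by group,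
          (hcomm b b.2 _ (hn a a.2)).mul_mul_mul_comm])
  have h := Subgroup.card_mul_index f.ker
  rw [Subgroup.index_ker] at h
  have hker : Nat.card ↥f.ker ≤ Nat.card ↥(L ⊓ cz w) :=
    Nat.card_le_card_of_injective (fun a => (⟨a.1.1, a.1.2, mem_cz.mpr (by
      have ha : (a.1 : G) * (w * a.1 * w⁻¹) = 1 := congrArg Subtype.val a.2
      have h1 : w * (a.1 : G) * w⁻¹ = a.1 := by
        rw [← inv_eq_of_mul_eq_one_right ha, inv_eq_of_mul_eq_one_right (h2 _ a.1.2)]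
      exact (mul_inv_eq_iff_eq_mul.mp h1).symm)⟩ : ↥(L ⊓ cz w)))
      fun a b hab => Subtype.ext (Subtype.ext (congrArg Subtype.val hab :))
  rw [← h]
  exact Nat.mul_le_mul hker (Subgroup.card_le_card_group _)

/-- Orbit and stabiliser for conjugation inside a subgroup. -/
theorem card_orbit_stab (M : Subgroup G) (t : G) :
    Set.ncard {v | ∃ n ∈ M, n * t * n⁻¹ = v} * Nat.card ↥(M ⊓ cz t) = Nat.card ↥M := by
  classical
  let g : ↥M ⧸ (cz t).subgroupOf M → ↥{v | ∃ n ∈ M, n * t * n⁻¹ = v} :=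
    Quotient.lift (fun n => ⟨(n : G) * t * (n : G)⁻¹, n, n.2, rfl⟩) (by
      intro a b hab
      have hc : ((a : G)⁻¹ * b) * t * ((a : G)⁻¹ * b)⁻¹ = t := mul_inv_eq_iff_eq_mul.mpr
        (mem_cz.mp (Subgroup.mem_subgroupOf.mp (QuotientGroup.leftRel_apply.mp hab))).eq
      refine Subtype.ext ?_
      show (a : G) * t * (a : G)⁻¹ = (b : G) * t * (b : G)⁻¹
      conv_lhs => rw [← hc]
      group)
  have hg : Function.Bijective g := by
    constructor
    · intro a b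
      induction a using QuotientGroup.induction_on with
      | H a =>
        induction b using QuotientGroup.induction_on with
        | H b =>
          intro h
          have h' : (a : G) * t * (a : G)⁻¹ = (b : G) * t * (b : G)⁻¹ := congrArg Subtype.val h
          rw [QuotientGroup.eq, Subgroup.mem_subgroupOf]
          refine mem_cz.mpr (mul_inv_eq_iff_eq_mul.mp ?_)
          calc ((a⁻¹ * b : ↥M) : G) * t * ((a⁻¹ * b : ↥M) : G)⁻¹
              = (a : G)⁻¹ * ((b : G) * t * (b : G)⁻¹) * a := by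
                simp only [Subgroup.coe_mul, Subgroup.coe_inv]; group
            _ = t := by rw [← h']; group
    · rintro ⟨v, n, hn, rfl⟩
      exact ⟨QuotientGroup.mk ⟨n, hn⟩, rfl⟩
  have hcard : Nat.card ↥((cz t).subgroupOf M) = Nat.card ↥(M ⊓ cz t) :=
    Nat.card_congr ⟨fun d => ⟨d.1.1, d.1.2, d.2⟩, fun d => ⟨⟨d.1, d.2.1⟩, d.2.2⟩,
      fun _ => rfl, fun _ => rfl⟩
  rw [← hcard, ← Nat.card_coe_set_eq, ← Nat.card_eq_of_bijective g hg]
  exact (Subgroup.card_eq_card_quotient_mul_card_subgroup _).symm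

namespace Five

variable (D : Five z p x e)
include D

theorem orderOf_L (F : AutFacts) {l : G} (hl : l ∈ line z p e) (h1 : l ≠ 1) : orderOf l = 2 :=
  orderOf_eq_prime (by rw [sq, D.sq_L F hl]) h1

theorem sq_of_conj {v : G} (h : IsConj z v) : v * v = 1 := by
  obtain ⟨g, rfl⟩ := isConj_iff.mp h
  rw [show g * z * g⁻¹ * (g * z * g⁻¹) = g * (z * z) * g⁻¹ by group, D.S.z_sq]
  group

theorem exists_five_at (F : AutFacts) {g a : G} (hzg : IsConj z g) (hgx : Commute x g)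
    (ha : a ∈ Q g) (hza : IsConj z a) (hne : a ≠ g) (hax : Commute x a) :
    ∃ r, Five g r x a := by
  obtain ⟨r0, T⟩ := D.S.exists_setting hzg
  obtain ⟨r, T', hr⟩ := exists_setting T F (mem_cz.mpr hgx) D.ord
  exact ⟨r, T', hgx, hr, D.ord, ha, hzg.symm.trans hza, hne, hax⟩

theorem commute_line (F : AutFacts) {l : G} (hl : l ∈ line z p e) : Commute x l :=
  (mem_cQ.mp (D.line_le F hl)).2.symm

/-- The line seen from another of its points. -/
theorem line_at (F : AutFacts) {g : G} (hg : g ∈ line z p e) (hg1 : g ≠ 1) (hgz : g ≠ z) :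
    ∃ r, Five g r x z ∧ line g r z = line z p e := by
  obtain ⟨T0r, T0⟩ := D.S.exists_setting D.hze
  have hgQ : g ∈ Q z := (D.S.line_le_inter F T0 D.he D.hne hg).1
  obtain ⟨r1, T1⟩ := D.S.exists_setting (D.conj_L F hg hg1)
  obtain ⟨r, D'⟩ := D.exists_five_at F (D.conj_L F hg hg1) (D.commute_line F hg)
    (D.S.mem_swap F T1 hgQ hgz) (IsConj.refl z) (Ne.symm hgz) D.xz
  refine ⟨r, D', ?_⟩
  rw [D.S.line_symm F D'.S hgQ hgz]
  exact D.S.line_eq_of_mem F T0 D.he D.hne D'.S hg hgz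

variable (F : AutFacts) (F5 : FiveFacts) (I : Inputs z)
include F F5 I

theorem conj_line {h l : G} (hh : h ∈ cz z) (hhx : Commute h x) (hl : l ∈ line z p e) :
    h * l * h⁻¹ ∈ line z p e := by
  by_cases h1 : l = 1
  · rw [h1, mul_one, mul_inv_cancel]; exact one_mem _
  · exact D.conj_mem_line F F5 I (D.conj_cQ hh hhx (D.line_le F hl))
      ((isConj_congr h l).mpr (D.conj_L F hl h1))

/-- Fixed points of an outer involution. -/
theorem outer_fixed {w : G} (hwz : w ∈ cz z) (hwx : Commute w x) (hwo : w ∉ inner z p)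
    (hw2 : w * w = 1) : cQ z x ⊓ cz w ≤ line z p e ∧ Nat.card ↥(cQ z x ⊓ cz w) = 4 := by
  classical
  set L := line z p e with hL
  have hn : ∀ a ∈ L, w * a * w⁻¹ ∈ L := fun a ha => D.conj_line F F5 I hwz hwx ha
  have hle : cQ z x ⊓ cz w ≤ L := by
    intro c hc
    have hc2 : c * c = 1 :=
      D.S.cQ_exp_two hwz hwo hw2 (mem_cQ.mpr ⟨(mem_cQ.mp hc.1).1, mem_cz.mp hc.2⟩)
    by_cases h1 : c = 1
    · rw [h1]; exact one_mem _
    · by_cases hcz : IsConj z c
      · exact D.conj_mem_line F F5 I hc.1 hcz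
      · exact absurd (D.no_outer_fix F F5 I hc.1 hc2 h1 hcz hwz hwx (mem_cz.mp hc.2).symm) hwo
  refine ⟨hle, ?_⟩
  have heq : cQ z x ⊓ cz w = L ⊓ cz w :=
    le_antisymm (fun c hc => ⟨hle hc, hc.2⟩) fun c hc => ⟨D.line_le F hc.1, hc.2⟩
  rw [heq]
  have hq := fixed_quarter (fun a ha => D.sq_L F ha) hw2 hn
  rw [D.card_L F] at hq
  have hlt : Nat.card ↥(L ⊓ cz w) < 8 := by
    refine lt_of_le_of_ne (D.card_L F ▸ Subgroup.card_le_of_le inf_le_left) fun h => ?_
    have he : L ⊓ cz w = L :=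
      Subgroup.eq_of_le_of_card_ge inf_le_left (le_of_eq ((D.card_L F).trans h.symm))
    have hc : ∀ l ∈ L, Commute w l := fun l hl => (mem_cz.mp (he.ge hl).2).symm
    obtain ⟨r, T⟩ := D.S.exists_setting D.hze
    exact D.S.outer_moves_line D.he T.z_ne_one D.hne (mem_cz.mp hwz) (hc e (e_mem_line _ _ _))
      hwo (hc _ (pe_mem_line _ _ _))
  have hd : Nat.card ↥(L ⊓ cz w) ∣ 8 := D.card_L F ▸ Subgroup.card_dvd_of_le inf_le_left
  obtain ⟨k, hk⟩ := hd
  rcases k with _ | _ | _ | k <;> nlinarith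

/-- Inner involutions of `C(z) ∩ C(x)` lie in `O₂`. -/
theorem inner_invol {v : G} (hv : v ∈ cz z) (hvx : Commute v x) (hi : v ∈ inner z p)
    (h2 : v * v = 1) : v ∈ cQ z x := by
  obtain ⟨j, f, hf, l, hl⟩ := D.inner_cent F F5 hv hvx hi
  have hsq1 : D.S.img v * D.S.img v = 1 := by
    rw [← D.S.img_mul hv hv, h2, D.S.img_of_mem (one_mem _)]
    exact map_one _
  have himg : D.S.img v = D.S.img x ^ j := by
    rw [hl, D.S.img_mul (zpow_mem D.mem j) (D.kernel_mem hf l).1.1, (D.kernel_mem hf l).2,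
      mul_one, D.img_zpow]
  have h1 : D.S.img v = 1 := by
    rw [himg, ← zpow_add] at hsq1
    have h := orderOf_dvd_iff_zpow_eq_one.mpr hsq1
    rw [himg, ← orderOf_dvd_iff_zpow_eq_one]
    rw [D.img_ord] at h ⊢
    omega
  exact mem_cQ.mpr ⟨D.S.mem_Q_of_img_one hv h1 (k := 1) (by rw [pow_one, sq]; exact h2), hvx⟩

/-- `|C(z) ∩ C(x) ∩ C(w)|` for an outer involution `w`. -/
theorem card_cent_outer {w : G} (hwz : w ∈ cz z) (hwx : Commute w x) (hwo : w ∉ inner z p)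
    (hw2 : w * w = 1) : Nat.card ↥(cz z ⊓ cz x ⊓ cz w) ∣ 40 := by
  set A := cz z ⊓ cz x ⊓ cz w
  let m : ↥A →* AutM22 :=
    D.S.phi.comp (Subgroup.inclusion (inf_le_left.trans inf_le_left))
  have hm : ∀ d : ↥A, m d = D.S.img d := fun d => (D.S.img_of_mem _).symm
  have hr : Nat.card ↥m.range ∣ 10 := by
    rw [← F5.cent _ D.img_ord]
    refine Subgroup.card_dvd_of_le ?_
    rintro _ ⟨d, rfl⟩
    refine mem_centralizer_single.mpr ?_
    show m d * _ = _ * m d
    rw [hm]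
    exact D.img_comm d.2.1.1 (mem_cz.mp d.2.1.2)
  have hk : Nat.card ↥m.ker = Nat.card ↥(cQ z x ⊓ cz w) := by
    have key : ∀ d : ↥A, m d = 1 → (d : G) ∈ cQ z x := by
      intro d hd
      obtain ⟨f, hf, i, hfi⟩ := D.ker_cent d.2.1.1 ((hm d).symm.trans hd) (mem_cz.mp d.2.1.2)
      obtain ⟨hfQ, -⟩ := mem_cQ.mp hf
      have hdw := mem_cz.mp d.2.2
      have hpi : p ^ i = 1 := by
        have hwi : w * p * w⁻¹ * p ∈ Q z := (D.S.inner_or_inverts hwz).resolve_left hwo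
        set q0 := w * p * w⁻¹ * p with hq0
        have hwp : w * p * w⁻¹ = q0 * p⁻¹ := by rw [hq0]; group
        have hconj : ∀ n : ℕ, ∃ q ∈ Q z, w * p ^ n * w⁻¹ = q * (p ^ n)⁻¹ := by
          intro n
          induction n with
          | zero => exact ⟨1, one_mem _, by simp⟩
          | succ k ih =>
            obtain ⟨q, hq, hk⟩ := ih
            refine ⟨q * ((p ^ k)⁻¹ * q0 * (p ^ k)),
              mul_mem hq (D.S.conj_mem' (pow_mem D.S.p_mem_cz k) hwi), ?_⟩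
            rw [pow_succ, show w * (p ^ k * p) * w⁻¹ = (w * p ^ k * w⁻¹) * (w * p * w⁻¹) by group,
              hk, hwp]
            group
        obtain ⟨n, hn⟩ : ∃ n : ℕ, p ^ n = p ^ i := by
          rcases D.S.p_zpow_cases i with h | h | h <;> rw [h]
          exacts [⟨0, pow_zero p⟩, ⟨1, pow_one p⟩, ⟨2, pow_two p⟩]
        obtain ⟨q, hq, hqn⟩ := hconj n
        have h1 : w * (d : G) * w⁻¹ = d := mul_inv_eq_iff_eq_mul.mpr hdw.symm.eq
        rw [hfi, ← hn, show w * (f * p ^ n) * w⁻¹ = (w * f * w⁻¹) * (w * p ^ n * w⁻¹) by group,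
          hqn] at h1
        have hmem : p ^ n * p ^ n ∈ Q z := by
          have h2 : p ^ n * p ^ n = f⁻¹ * ((w * f * w⁻¹) * q) := by
            calc p ^ n * p ^ n = f⁻¹ * (f * p ^ n) * p ^ n := by group
              _ = f⁻¹ * ((w * f * w⁻¹) * (q * (p ^ n)⁻¹)) * p ^ n := by rw [h1]
              _ = _ := by group
          rw [h2]
          exact mul_mem (inv_mem hfQ) (mul_mem (D.S.conj_mem hwz hfQ) hq)
        rw [← hn]
        have h3 : (p ^ n) ^ 3 = 1 := by rw [← pow_mul, mul_comm, pow_mul, D.S.p_cube, one_pow]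
        have h4 : p ^ n = (p ^ n * p ^ n) * (p ^ n * p ^ n) := by
          rw [← sq, ← sq, ← pow_mul, show 2 * 2 = 3 + 1 from rfl, pow_succ, h3, one_mul]
        have h5 : p ^ (n : ℤ) ∈ Q z := by rw [zpow_natCast, h4]; exact mul_mem hmem hmem
        rw [← zpow_natCast, D.S.zpow_mem_Q h5]
      rw [hpi, mul_one] at hfi
      rw [hfi]
      exact hf
    refine Nat.card_congr ⟨fun d => ⟨d.1.1, key d.1 d.2, d.1.2.2⟩,
      fun v => ⟨⟨v.1, ⟨Q_le_cz z (mem_cQ.mp v.2.1).1, mem_cz.mpr (mem_cQ.mp v.2.1).2⟩, v.2.2⟩,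
        (hm _).trans (D.S.img_Q (mem_cQ.mp v.2.1).1)⟩, fun _ => rfl, fun _ => rfl⟩
  have h := Subgroup.card_mul_index m.ker
  rw [Subgroup.index_ker, hk, (D.outer_fixed F F5 I hwz hwx hwo hw2).2] at h
  rw [← h, show (40 : ℕ) = 4 * 10 by norm_num]
  exact Nat.mul_dvd_mul_left _ hr

/-- The conjugates of `z` centralising `z` and `x` lie on the line. -/
theorem cent_class {w : G} (hwz : w ∈ cz z) (hwx : Commute w x) (hc : IsConj z w) :
    w ∈ line z p e := by
  classical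
  have hw2 := D.sq_of_conj hc
  by_cases hwi : w ∈ inner z p
  · exact D.conj_mem_line F F5 I (D.inner_invol F F5 I hwz hwx hwi hw2) hc
  exfalso
  have hwQ : w ∉ Q z := fun h => hwi (D.S.Q_le_inner h)
  have hwne : w ≠ z := fun h => hwQ (h ▸ D.S.es.mem)
  obtain ⟨r', a, Dw⟩ : ∃ r' a, Five w r' x a := by
    obtain ⟨g, hg⟩ := isConj_iff.mp hc
    have hxc : g⁻¹ * x * g ∈ cz z := by
      refine mem_cz.mpr ?_
      have := hwx.symm.map (MulAut.conj g⁻¹)
      simp only [MulAut.conj_apply, inv_inv] at this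
      rwa [← hg, show g⁻¹ * (g * z * g⁻¹) * g = z by group] at this
    obtain ⟨h, hh, hmem⟩ := conj_five D.S F hxc D.mem (by
      have := MulEquiv.orderOf_eq (MulAut.conj g⁻¹) x
      simp only [MulAut.conj_apply, inv_inv] at this
      exact this.trans D.ord) D.ord
    set k := g * h⁻¹ with hk
    have hkz : k * z * k⁻¹ = w := by
      rw [hk, show g * h⁻¹ * z * (g * h⁻¹)⁻¹ = g * (h⁻¹ * z * h⁻¹⁻¹) * g⁻¹ by group,
        mul_inv_eq_iff_eq_mul.mpr (mem_cz.mp (inv_mem hh)).eq, hg]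
    have hkx : ∀ {v : G}, Commute x v → Commute x (k * v * k⁻¹) := by
      intro v hv
      obtain ⟨i, hi⟩ := hmem
      have hi' : x ^ i = h * (g⁻¹ * x * g) * h⁻¹ := hi
      have := (hv.zpow_left i).map (MulAut.conj k)
      simp only [MulAut.conj_apply] at this
      rwa [hi', show k * (h * (g⁻¹ * x * g) * h⁻¹) * k⁻¹ = x by rw [hk]; group] at this
    obtain ⟨rr, D'⟩ := D.exists_five_at F (g := w) (a := k * e * k⁻¹) hc hwx.symm
      (hkz ▸ isQ.mem_conj k D.he) (D.hze.trans (isConj_iff.mpr ⟨k, rfl⟩))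
      (fun h => D.hne (mul_left_cancel (mul_right_cancel (h.trans hkz.symm)))) (hkx D.xe)
    exact ⟨rr, _, D'⟩
  have hzQw : z ∉ Q w := fun h => hwQ (Dw.S.mem_swap F D.S h hwne.symm)
  have hzwc : z ∈ cz w := mem_cz.mpr (mem_cz.mp hwz).symm
  have hzo : z ∉ inner w r' := fun h => hzQw (mem_cQ.mp
    (Dw.inner_invol F F5 (I.congr hc) hzwc D.xz.symm h D.S.z_sq)).1
  obtain ⟨-, h4z⟩ := D.outer_fixed F F5 I hwz hwx hwi hw2
  obtain ⟨-, h4w⟩ := Dw.outer_fixed F F5 (I.congr hc) hzwc D.xz.symm hzo D.S.z_sq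
  set U := cQ z x ⊓ cz w with hU
  set W := cQ w x ⊓ cz z with hW
  set A := cz z ⊓ cz x ⊓ cz w with hA
  have hUA : U ≤ A := fun v hv =>
    ⟨⟨Q_le_cz z (mem_cQ.mp hv.1).1, mem_cz.mpr (mem_cQ.mp hv.1).2⟩, hv.2⟩
  have hWA : W ≤ A := fun v hv =>
    ⟨⟨hv.2, mem_cz.mpr (mem_cQ.mp hv.1).2⟩, Q_le_cz w (mem_cQ.mp hv.1).1⟩
  have h40 := D.card_cent_outer F F5 I hwz hwx hwi hw2
  rw [← hA] at h40
  obtain ⟨g, hg, hg1⟩ : ∃ g ∈ U ⊓ W, g ≠ 1 := by
    by_contra hcon
    push Not at hcon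
    have hbot : U ⊓ W = ⊥ := (Subgroup.eq_bot_iff_forall _).mpr hcon
    have hUn : ∀ a ∈ A, ∀ v ∈ U, a * v * a⁻¹ ∈ U := fun a ha v hv =>
      ⟨D.conj_cQ ha.1.1 (mem_cz.mp ha.1.2) hv.1,
        mem_cz.mpr (((mem_cz.mp ha.2).mul_left (mem_cz.mp hv.2)).mul_left (mem_cz.mp ha.2).inv_left)⟩
    have hWn : ∀ a ∈ A, ∀ v ∈ W, a * v * a⁻¹ ∈ W := fun a ha v hv =>
      ⟨Dw.conj_cQ ha.2 (mem_cz.mp ha.1.2) hv.1,
        mem_cz.mpr (((mem_cz.mp ha.1.1).mul_left (mem_cz.mp hv.2)).mul_left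
          (mem_cz.mp ha.1.1).inv_left)⟩
    have hprod : ∀ u ∈ U, ∀ v ∈ W, Commute u v := fun u hu v hv => by
      have h1 : u * v * u⁻¹ * v⁻¹ ∈ U ⊓ W := Subgroup.mem_inf.mpr ⟨by
          rw [show u * v * u⁻¹ * v⁻¹ = u * (v * u⁻¹ * v⁻¹) by group]
          exact mul_mem hu (hUn v (hWA hv) _ (inv_mem hu)),
        mul_mem (hWn u (hUA hu) v hv) (inv_mem hv)⟩
      rw [hbot, Subgroup.mem_bot, mul_inv_eq_one] at h1
      exact mul_inv_eq_iff_eq_mul.mp h1
    let φ : ↥U × ↥W →* ↥A :=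
      MonoidHom.mk' (fun q => ⟨q.1 * q.2, mul_mem (hUA q.1.2) (hWA q.2.2)⟩) fun a b =>
        Subtype.ext (by
          show ((a.1 : G) * b.1) * ((a.2 : G) * b.2) = ((a.1 : G) * a.2) * ((b.1 : G) * b.2)
          exact (hprod b.1 b.1.2 a.2 a.2.2).mul_mul_mul_comm _ _)
    have hinj : Function.Injective φ := by
      rw [injective_iff_map_eq_one]
      rintro ⟨u, v⟩ h
      have h' : (u : G) * v = 1 := congrArg Subtype.val h
      have hu : (u : G) ∈ U ⊓ W :=
        Subgroup.mem_inf.mpr ⟨u.2, by rw [eq_inv_of_mul_eq_one_left h']; exact inv_mem v.2⟩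
      rw [hbot, Subgroup.mem_bot] at hu
      rw [hu, one_mul] at h'
      exact Prod.ext (Subtype.ext hu) (Subtype.ext h')
    have hd := (Subgroup.card_dvd_of_injective φ hinj).trans h40
    rw [Nat.card_prod, h4z, h4w] at hd
    norm_num at hd
  obtain ⟨hgX, hgw⟩ := hg.1
  obtain ⟨hgXw, -⟩ := hg.2
  have hgQ : g ∈ Q z := (mem_cQ.mp hgX).1
  have hgQw : g ∈ Q w := (mem_cQ.mp hgXw).1
  have hgL : g ∈ line z p e :=
    (D.outer_fixed F F5 I hwz hwx hwi hw2).1 (Subgroup.mem_inf.mpr ⟨hgX, hgw⟩)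
  have hgz : g ≠ z := fun h => hzQw (h ▸ hgQw)
  have hgw' : g ≠ w := fun h => hwQ (h ▸ hgQ)
  obtain ⟨rg, Dg, hline⟩ := D.line_at F hgL hg1 hgz
  have hwQg : w ∈ Q g := Dw.S.mem_swap F Dg.S hgQw hgw'
  have hzg := D.conj_L F hgL hg1
  have hw' : w ∈ line g rg z := Dg.conj_mem_line F F5 (I.congr hzg)
    (mem_cQ.mpr ⟨hwQg, hwx⟩) (hzg.symm.trans hc)
  rw [hline] at hw'
  exact hwQ (mem_cQ.mp (D.line_le F hw')).1

/-- The stabiliser of the line in `C(x)`. -/
theorem cent_le_stab : cz z ⊓ cz x ≤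
    cz x ⊓ Subgroup.normalizer ((line z p e : Subgroup G) : Set G) := fun h hh =>
  ⟨hh.2, mem_normalizer_of_le fun _ hl => D.conj_line F F5 I hh.1 (mem_cz.mp hh.2) hl⟩

theorem cent_le_stab_at {g : G} (hg : g ∈ line z p e) (hg1 : g ≠ 1) : cz g ⊓ cz x ≤
    cz x ⊓ Subgroup.normalizer ((line z p e : Subgroup G) : Set G) := by
  by_cases hgz : g = z
  · rw [hgz]; exact D.cent_le_stab F F5 I
  · obtain ⟨r, D', hline⟩ := D.line_at F hg hg1 hgz
    rw [← hline]
    exact D'.cent_le_stab F F5 (I.congr (D.conj_L F hg hg1))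

theorem cent_class_at {g v : G} (hg : g ∈ line z p e) (hg1 : g ≠ 1) (hvg : Commute v g)
    (hvx : Commute v x) (hc : IsConj z v) : v ∈ line z p e := by
  by_cases hgz : g = z
  · exact D.cent_class F F5 I (mem_cz.mpr (hgz ▸ hvg)) hvx hc
  · obtain ⟨r, D', hline⟩ := D.line_at F hg hg1 hgz
    rw [← hline]
    exact D'.cent_class F F5 (I.congr (D.conj_L F hg hg1)) (mem_cz.mpr hvg) hvx
      ((D.conj_L F hg hg1).symm.trans hc)

/-- The stabiliser of the line is transitive on its seven involutions. -/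
theorem stab_transitive {g : G} (hg : g ∈ line z p e) (hg1 : g ≠ 1) :
    ∃ m ∈ cz x ⊓ Subgroup.normalizer ((line z p e : Subgroup G) : Set G), m * z * m⁻¹ = g := by
  by_cases hgz : g = z
  · exact ⟨1, one_mem _, by rw [hgz]; group⟩
  obtain ⟨r, T⟩ := D.S.exists_setting D.hze
  set c := p * e * p⁻¹ with hc
  have hcL : c ∈ line z p e := pe_mem_line _ _ _
  have hc1 : c ≠ 1 := fun h => T.z_ne_one (conj_eq_one_iff.mp h)
  have hce : c ≠ e := fun h => D.S.ne_modZ_pe D.he T.z_ne_one D.hne (Or.inl h)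
  have hcz : c ≠ z := fun h => D.hne (mul_left_cancel (mul_right_cancel
    (h.trans (mul_inv_eq_iff_eq_mul.mpr D.S.p_z.eq).symm)))
  obtain ⟨re, De, hline⟩ := D.line_at F (e_mem_line _ _ _) T.z_ne_one D.hne
  have hLe : line e re z ≤ cQ e x := De.line_le F
  obtain ⟨k, hk, hkx, -, hkz⟩ := De.trans_six hLe (De.card_L F) (z_mem_line _ _ _)
    (fun a ha => by
      obtain ⟨rz, Tz⟩ := De.S.exists_setting De.hze
      exact De.S.line_invariant F Tz De.he De.hne ha)
    (e_mem_line _ _ _) D.S.z_ne_one D.hne.symm (hline.ge hcL) hc1 hce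
  obtain ⟨k', hk', hk'x, -, hk'c⟩ := D.trans_six (D.line_le F) (D.card_L F) (z_mem_line _ _ _)
    (fun a ha => D.S.line_invariant F T D.he D.hne ha) hcL hc1 hcz hg hg1 hgz
  refine ⟨k' * k, mul_mem (D.cent_le_stab F F5 I ⟨hk', mem_cz.mpr hk'x⟩)
    (D.cent_le_stab_at F F5 I (e_mem_line _ _ _) T.z_ne_one ⟨hk, mem_cz.mpr hkx⟩), ?_⟩
  rw [show k' * k * z * (k' * k)⁻¹ = k' * (k * z * k⁻¹) * k'⁻¹ by group, hkz, hk'c]

/-- Conjugates of `z` in the stabiliser lie on the line. -/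
theorem stab_class {v : G}
    (hv : v ∈ cz x ⊓ Subgroup.normalizer ((line z p e : Subgroup G) : Set G))
    (hc : IsConj z v) : v ∈ line z p e := by
  have hq := fixed_quarter (fun a ha => D.sq_L F ha) (D.sq_of_conj hc)
    fun a ha => (Subgroup.mem_normalizer_iff.mp hv.2 a).mp ha
  rw [D.card_L F] at hq
  obtain ⟨g, hg, hg1⟩ : ∃ g ∈ line z p e ⊓ cz v, g ≠ 1 := by
    by_contra hcon
    push Not at hcon
    rw [(Subgroup.eq_bot_iff_forall _).mpr hcon, Subgroup.card_bot] at hq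
    omega
  exact D.cent_class_at F F5 I hg.1 hg1 (mem_cz.mp hg.2).symm (mem_cz.mp hv.1) hc

/-- Centralisers of second-class involutions of the stabiliser. -/
theorem stab_second {t : G}
    (ht : t ∈ cz x ⊓ Subgroup.normalizer ((line z p e : Subgroup G) : Set G))
    (ht2 : orderOf t = 2) (htn : ¬ IsConj z t) : cz t ⊓ cz x ≤
    cz x ⊓ Subgroup.normalizer ((line z p e : Subgroup G) : Set G) := by
  classical
  set M := cz x ⊓ Subgroup.normalizer ((line z p e : Subgroup G) : Set G) with hM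
  set D' := cz t ⊓ cz x with hD'
  have htt := Involutions.Basic.invol_mul_self ht2
  have hq := fixed_quarter (fun a ha => D.sq_L F ha) htt
    fun a ha => (Subgroup.mem_normalizer_iff.mp ht.2 a).mp ha
  rw [D.card_L F] at hq
  obtain ⟨g, hg, hg1⟩ : ∃ g ∈ line z p e ⊓ cz t, g ≠ 1 := by
    by_contra hcon
    push Not at hcon
    rw [(Subgroup.eq_bot_iff_forall _).mpr hcon, Subgroup.card_bot] at hq
    omega
  have hxt : Commute x t := (mem_cz.mp ht.1).symm
  have h80 := (card_cent_second D.S F5 I D.ord ht2 htn hxt).1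
  set σ : ↥D' := ⟨x, mem_cz.mpr hxt, mem_cz.mpr (Commute.refl x)⟩ with hσ
  have hcent : Subgroup.zpowers σ ≤ Subgroup.center ↥D' := by
    rw [Subgroup.zpowers_le, Subgroup.mem_center_iff]
    exact fun d => Subtype.ext (mem_cz.mp d.2.2).eq
  have hnorm : (Subgroup.zpowers σ).Normal :=
    ⟨fun a ha b => by
      rw [(Subgroup.mem_center_iff.mp (hcent ha) b), mul_inv_cancel_right]; exact ha⟩
  have hqc : Nat.card (↥D' ⧸ Subgroup.zpowers σ) ∣ 2 ^ 4 := by
    have h := Subgroup.card_eq_card_quotient_mul_card_subgroup (Subgroup.zpowers σ)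
    have hσo : orderOf σ = 5 :=
      (orderOf_injective D'.subtype Subtype.coe_injective σ).symm.trans D.ord
    rw [Nat.card_zpowers, hσo] at h
    rw [h, show 80 = 2 ^ 4 * 5 by norm_num] at h80
    exact Nat.dvd_of_mul_dvd_mul_right (by norm_num) h80
  obtain ⟨k, -, hk⟩ := (Nat.dvd_prime_pow Nat.prime_two).mp hqc
  have := Fact.mk Nat.prime_two
  have : Group.IsNilpotent (↥D' ⧸ Subgroup.zpowers σ) := (IsPGroup.of_card hk).isNilpotent
  have : Group.IsNilpotent ↥D' :=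
    Subgroup.isNilpotent_of_ker_le_center (QuotientGroup.mk' (Subgroup.zpowers σ))
      (by rw [QuotientGroup.ker_mk']; exact hcent)
  by_contra hle
  have hlt : M.subgroupOf D' < ⊤ := lt_top_iff_ne_top.mpr fun h =>
    hle (Subgroup.subgroupOf_eq_top.mp h)
  obtain ⟨n, hn, hn'⟩ := SetLike.exists_of_lt (Group.normalizerCondition_of_isNilpotent _ hlt)
  have hgD : g ∈ D' := ⟨hg.2, mem_cz.mpr (D.commute_line F hg.1).symm⟩
  have hgM : g ∈ M :=
    D.cent_le_stab_at F F5 I hg.1 hg1 ⟨mem_cz.mpr (Commute.refl g), hgD.2⟩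
  have hng : (n : G) * g * (n : G)⁻¹ ∈ M :=
    (Subgroup.mem_normalizer_iff.mp hn ⟨g, hgD⟩).mp hgM
  have hng1 : (n : G) * g * (n : G)⁻¹ ≠ 1 := fun h => hg1 (conj_eq_one_iff.mp h)
  have hngL := D.stab_class F F5 I hng ((isConj_congr (n : G) g).mpr (D.conj_L F hg.1 hg1))
  obtain ⟨m1, hm1, hm1z⟩ := D.stab_transitive F F5 I hg.1 hg1
  obtain ⟨m2, hm2, hm2z⟩ := D.stab_transitive F F5 I hngL hng1
  have hstab : m1 * m2⁻¹ * n ∈ cz g ⊓ cz x := by
    refine Subgroup.mem_inf.mpr ⟨mem_cz.mpr (mul_inv_eq_iff_eq_mul.mp ?_),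
      mul_mem (mul_mem hm1.1 (inv_mem hm2.1)) n.2.2⟩
    calc m1 * m2⁻¹ * n * g * (m1 * m2⁻¹ * n)⁻¹
        = m1 * (m2⁻¹ * ((n : G) * g * (n : G)⁻¹) * m2) * m1⁻¹ := by group
      _ = g := by rw [← hm2z, show m2⁻¹ * (m2 * z * m2⁻¹) * m2 = z by group, hm1z]
  have h1 := D.cent_le_stab_at F F5 I hg.1 hg1 hstab
  refine hn' (show (n : G) ∈ M from ?_)
  have h2 := mul_mem (mul_mem hm2 (inv_mem hm1)) h1
  rwa [show m2 * m1⁻¹ * (m1 * m2⁻¹ * n) = n by group] at h2

/-- All conjugates of `z` in `C(x)` lie on the line. -/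
theorem class_eq {v : G} (hvx : Commute v x) (hc : IsConj z v) : v ∈ line z p e := by
  classical
  obtain ⟨t, ht, ht2, ht1, htn⟩ := D.exists_second F F5 I
  obtain ⟨htQ, htx⟩ := mem_cQ.mp ht
  have hto : orderOf t = 2 := orderOf_eq_prime (by rw [sq, ht2]) ht1
  have htM := D.cent_le_stab F F5 I ⟨Q_le_cz z htQ, mem_cz.mpr htx⟩
  have hvo : orderOf v = 2 := orderOf_eq_prime (by rw [sq, D.sq_of_conj hc])
    fun h => not_conj_one D.S (h ▸ hc)
  have heven := Involutions.Basic.even_of_not_isConj hvo hto fun h => htn (hc.trans h)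
  set w := (v * t) ^ (orderOf (v * t) / 2) with hw
  have hwo : orderOf w = 2 := Involutions.Basic.orderOf_pow_half heven
  obtain ⟨hvw, htw⟩ := Cfsg.Agent.Lib.J4Seven.Count.commute_of_mem hvo hto hwo
    (pow_mem (Subgroup.mem_zpowers _) _)
  have hwx : Commute w x := (hvx.mul_left htx).pow_left _
  have hwM := D.stab_second F F5 I htM hto htn ⟨mem_cz.mpr htw.symm, mem_cz.mpr hwx⟩
  refine D.stab_class F F5 I ?_ hc
  by_cases hwz : IsConj z w
  · exact D.cent_le_stab_at F F5 I (D.stab_class F F5 I hwM hwz)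
      (Involutions.Basic.invol_ne_one hwo) ⟨mem_cz.mpr hvw, mem_cz.mpr hvx⟩
  · exact D.stab_second F F5 I hwM hwo hwz ⟨mem_cz.mpr hvw, mem_cz.mpr hvx⟩

/-- `C(x)` normalises the line. -/
theorem cz_le_normalizer :
    cz x ≤ Subgroup.normalizer ((line z p e : Subgroup G) : Set G) := fun h hh => by
  refine mem_normalizer_of_le fun l hl => ?_
  by_cases h1 : l = 1
  · rw [h1, mul_one, mul_inv_cancel]; exact one_mem _
  · refine D.class_eq F F5 I ?_ ((isConj_congr h l).mpr (D.conj_L F hl h1))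
    exact ((mem_cz.mp hh).mul_left (D.commute_line F hl).symm).mul_left (mem_cz.mp hh).inv_left

/-- `|C(x)| = 6720`. -/
theorem card_cx : Nat.card ↥(cz x) = 6720 := by
  have heq : cz x = cz x ⊓ Subgroup.normalizer ((line z p e : Subgroup G) : Set G) :=
    (inf_eq_left.mpr (D.cz_le_normalizer F F5 I)).symm
  have hset : {v | ∃ n ∈ cz x, n * z * n⁻¹ = v} = (line z p e : Set G) \ {1} := by
    ext v
    constructor
    · rintro ⟨n, hn, rfl⟩
      refine ⟨(Subgroup.mem_normalizer_iff.mp (D.cz_le_normalizer F F5 I hn) z).mp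
        (z_mem_line _ _ _), fun h => D.S.z_ne_one (conj_eq_one_iff.mp h)⟩
    · rintro ⟨hv, hv1⟩
      obtain ⟨m, hm, hmz⟩ := D.stab_transitive F F5 I hv hv1
      exact ⟨m, hm.1, hmz⟩
  have h := card_orbit_stab (cz x) z
  rw [hset, Set.ncard_sdiff_singleton_of_mem (one_mem _), ← Nat.card_coe_set_eq,
    SetLike.coe_sort_coe, D.card_L F, inf_comm, D.card_cent F F5] at h
  exact h.symm

end Five

end Cfsg.Agent.Lib.J4Five
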