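import Cfsg.Agent.Lib.J4Five.Centre
import Cfsg.Agent.Lib.J4Five.Linear
import Cfsg.Prelude.Def_TwoFusion

/-!
# The 5-local structure of a group of Janko-four type
-/

set_option autoImplicit false
set_option linter.unusedSectionVars false

namespace Cfsg.Agent.Lib.J4Five

open Cfsg.Agent.Lib.J4Local
open Cfsg.Agent.Lib.LargeExtraspecial.Basic

variable {G : Type*} [Group G] [Finite G] {z p x e : G}

/-- The complement `J` to `⟨x⟩` in `C(x)`. -/
structure Compl (x : G) (J : Subgroup G) : Prop where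
  le : J ≤ cz x
  inf : Subgroup.zpowers x ⊓ J = ⊥
  sup : Subgroup.zpowers x ⊔ J = cz x
  decomp : ∀ c ∈ cz x, ∃ i : ℤ, ∃ j ∈ J, c = x ^ i * j

namespace Five

variable (D : Five z p x e) (F : AutFacts) (F5 : FiveFacts) (I : Inputs z)
include D F F5 I

theorem not_dvd : ¬ 25 ∣ Nat.card G := by
  intro h25
  have := Fact.mk Nat.prime_five
  obtain ⟨K, hK, hSK⟩ := Sylow.exists_subgroup_card_pow_succ (p := 5) (n := 1) h25
    (H := Subgroup.zpowers x) (by rw [Nat.card_zpowers, D.ord, pow_one])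
  haveI := IsPGroup.isMulCommutative_of_card_eq_prime_sq (p := 5) (G := ↥K) hK
  have hle : K ≤ cz x := fun k hk => mem_cz.mpr (congrArg Subtype.val
    (IsMulCommutative.is_comm.comm (⟨k, hk⟩ : ↥K) ⟨x, hSK (Subgroup.mem_zpowers x)⟩))
  have h := Subgroup.card_dvd_of_le hle
  rw [hK, D.card_cx F F5 I] at h
  norm_num at h

theorem exists_compl : ∃ J : Subgroup G, Compl x J ∧ Nat.card ↥J = 1344 := by
  classical
  set σ : ↥(cz x) := ⟨x, mem_cz.mpr (Commute.refl x)⟩ with hσ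
  set Z := Subgroup.zpowers σ with hZ
  have hσo : orderOf σ = 5 := (orderOf_injective (cz x).subtype Subtype.coe_injective σ).symm.trans D.ord
  have hcent : ∀ d : ↥(cz x), Commute d σ := fun d => Subtype.ext (mem_cz.mp d.2).eq
  have hnorm : Z.Normal := ⟨fun a ha b => by
    obtain ⟨i, rfl⟩ := Subgroup.mem_zpowers_iff.mp ha
    rw [((hcent b).zpow_right i).eq, mul_inv_cancel_right]
    exact ha⟩
  have hidx := Subgroup.card_mul_index Z
  rw [hZ, Nat.card_zpowers, hσo, D.card_cx F F5 I, ← hZ] at hidx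
  have hi : Z.index = 1344 := by omega
  obtain ⟨H, hH⟩ := Subgroup.exists_right_complement'_of_coprime (N := Z) (by
    rw [hi, hZ, Nat.card_zpowers, hσo]; norm_num)
  refine ⟨H.map (cz x).subtype, ⟨Subgroup.map_subtype_le H, ?_, ?_, ?_⟩, ?_⟩
  · rw [Subgroup.eq_bot_iff_forall]
    rintro _ ⟨⟨i, hi'⟩, b, hb, rfl⟩
    have hb' : b ∈ Z ⊓ H := Subgroup.mem_inf.mpr ⟨⟨i, Subtype.ext hi'⟩, hb⟩
    rw [disjoint_iff.mp hH.disjoint, Subgroup.mem_bot] at hb'
    rw [hb']
    rfl
  · have h := congrArg (Subgroup.map (cz x).subtype) hH.sup_eq_top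
    rw [Subgroup.map_sup, hZ, MonoidHom.map_zpowers] at h
    rw [← MonoidHom.range_eq_map, Subgroup.range_subtype] at h
    exact h
  · intro c hc
    obtain ⟨⟨⟨_, i, rfl⟩, ⟨j, hj⟩⟩, hij⟩ := hH.2 ⟨c, hc⟩
    exact ⟨i, j, ⟨j, hj, rfl⟩, (congrArg Subtype.val hij).symm⟩
  · rw [Subgroup.card_map_of_injective (Subgroup.subtype_injective _)]
    have h := hH.card_mul
    rw [hZ, Nat.card_zpowers, hσo, D.card_cx F F5 I] at h
    omega

theorem mem_compl {J : Subgroup G} (hJ : Compl x J) {d : G} (hd : Commute d x) (h2 : d * d = 1) :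
    d ∈ J := by
  obtain ⟨i, j, hj, rfl⟩ := hJ.decomp d (mem_cz.mpr hd)
  have hc : Commute j (x ^ i) := (mem_cz.mp (hJ.le hj)).zpow_right i
  have h1 : x ^ (i + i) ∈ Subgroup.zpowers x ⊓ J := by
    refine Subgroup.mem_inf.mpr ⟨Subgroup.zpow_mem_zpowers x _, ?_⟩
    have : x ^ (i + i) = (j * j)⁻¹ := by
      refine eq_inv_of_mul_eq_one_left ?_
      rw [zpow_add, ← h2]
      exact (hc.mul_mul_mul_comm (x ^ i) j).symm
    rw [this]
    exact inv_mem (mul_mem hj hj)
  rw [hJ.inf, Subgroup.mem_bot, ← orderOf_dvd_iff_zpow_eq_one, D.ord] at h1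
  have h5 : x ^ i = 1 := by
    rw [← orderOf_dvd_iff_zpow_eq_one, D.ord]
    omega
  rwa [h5, one_mul]

/-- Elements of `C(x)` centralising the line. -/
theorem cent_line {d : G} (hdx : Commute d x) (hd : ∀ l ∈ line z p e, Commute d l) :
    ∃ i : ℤ, ∃ f ∈ line z p e, d = x ^ i * f := by
  classical
  set L := line z p e with hL
  obtain ⟨r, T⟩ := D.S.exists_setting D.hze
  have hdz : Commute d z := hd z (z_mem_line _ _ _)
  have hde : Commute d e := hd e (e_mem_line _ _ _)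
  have hi : d ∈ inner z p := by
    by_contra ho
    exact D.S.outer_moves_line D.he T.z_ne_one D.hne hdz hde ho (hd _ (pe_mem_line _ _ _))
  obtain ⟨j, f, hf, i, rfl⟩ := D.inner_cent F F5 (mem_cz.mpr hdz) hdx hi
  obtain ⟨hfQ, hfx⟩ := mem_cQ.mp hf
  have hxl : ∀ l ∈ L, Commute (x ^ j) l := fun l hl => (D.commute_line F hl).zpow_left j
  have hfp : ∀ l ∈ L, Commute (f * p ^ i) l := fun l hl => by
    have := (hxl l hl).inv_left.mul_left (hd l hl)
    rwa [inv_mul_cancel_left] at this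
  have hpi : p ^ i = 1 := by
    refine D.S.zpow_p_fix D.he T.z_ne_one D.hne ?_
    have h := mul_inv_eq_iff_eq_mul.mpr (hfp e (e_mem_line _ _ _)).eq
    have h1 : p ^ i * e * (p ^ i)⁻¹ = f⁻¹ * e * f⁻¹⁻¹ := by
      calc p ^ i * e * (p ^ i)⁻¹ = f⁻¹ * (f * p ^ i * e * (f * p ^ i)⁻¹) * f := by group
        _ = _ := by rw [h, inv_inv]
    rw [h1]
    exact D.S.es.conj f⁻¹ (inv_mem hfQ) e D.he
  rw [hpi, mul_one] at hfp ⊢
  set W := cQ z x ⊓ Subgroup.centralizer (L : Set G) with hW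
  have hc := ESCount.card_perp D.es_X (D.line_le F) (z_mem_line z p e)
  rw [(D.cQ_spec F).1, D.card_L F, ← hW] at hc
  have hLW : L ≤ W := fun l hl =>
    ⟨D.line_le F hl, Subgroup.mem_centralizer_iff.mpr fun m hm => (D.comm_L F hm hl).eq⟩
  have heq : L = W := Subgroup.eq_of_le_of_card_ge hLW (by rw [hL, D.card_L F]; omega)
  refine ⟨j, f, heq.ge ?_, rfl⟩
  exact Subgroup.mem_inf.mpr ⟨hf, Subgroup.mem_centralizer_iff.mpr fun m hm => (hfp m hm).symm.eq⟩

/-- The extension `2³ · L₃(2)`. -/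
theorem compl_structure {J : Subgroup G} (hJ : Compl x J) (hc : Nat.card ↥J = 1344) :
    ∃ (E : Subgroup ↥J) (_ : E.Normal), Cfsg.IsElementaryAbelian 2 E ∧ Nat.card ↥E = 8 ∧
      Nonempty (↥J ⧸ E ≃* Matrix.SpecialLinearGroup (Fin 3) (ZMod 2)) ∧
      ∀ K : Subgroup ↥J, ¬ E.IsComplement' K := by
  classical
  set L := line z p e with hL
  have hLJ : L ≤ J := fun l hl =>
    D.mem_compl F F5 I hJ (D.commute_line F hl).symm (D.sq_L F hl)
  have hJN : J ≤ Subgroup.normalizer (L : Set G) := hJ.le.trans (D.cz_le_normalizer F F5 I)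
  set E := L.subgroupOf J with hE
  let f : ↥J →* MulAut ↥L := L.normalizerMonoidHom.comp (Subgroup.inclusion hJN)
  have hker : f.ker = E := by
    ext d
    rw [MonoidHom.mem_ker, hE, Subgroup.mem_subgroupOf, MonoidHom.comp_apply,
      ← MonoidHom.mem_ker, Subgroup.normalizerMonoidHom_ker, Subgroup.mem_subgroupOf]
    show (d : G) ∈ Subgroup.centralizer (L : Set G) ↔ (d : G) ∈ L
    constructor
    · intro hd
      obtain ⟨i, l, hl, hdl⟩ := D.cent_line F F5 I (mem_cz.mp (hJ.le d.2)) fun l hl =>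
        (Subgroup.mem_centralizer_iff.mp hd l hl).symm
      have hxi : x ^ i ∈ Subgroup.zpowers x ⊓ J := Subgroup.mem_inf.mpr
        ⟨Subgroup.zpow_mem_zpowers x i, by
          rw [show x ^ i = (d : G) * l⁻¹ by rw [hdl, mul_inv_cancel_right]]
          exact mul_mem d.2 (inv_mem (hLJ hl))⟩
      rw [hJ.inf, Subgroup.mem_bot] at hxi
      rw [hdl, hxi, one_mul]
      exact hl
    · intro hd
      exact Subgroup.mem_centralizer_iff.mpr fun l hl => (D.comm_L F hl hd).eq
  have hnorm : E.Normal := hker ▸ f.normal_ker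
  have hE8 : Nat.card ↥E = 8 := by
    rw [hE, Nat.card_congr (Subgroup.subgroupOfEquivOfLe hLJ).toEquiv, hL, D.card_L F]
  have h2L : ∀ a : ↥L, a * a = 1 := fun a => Subtype.ext (D.sq_L F a.2)
  have hA := Linear.card_mulAut h2L (D.card_L F)
  have hsurj : Function.Surjective f := by
    rw [← MonoidHom.range_eq_top, ← Subgroup.card_eq_iff_eq_top]
    have h := Subgroup.card_mul_index f.ker
    rw [Subgroup.index_ker, hker, hE8, hc] at h
    omega
  obtain ⟨iso⟩ := Linear.mulAutEquiv h2L (D.card_L F)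
  refine ⟨E, hnorm, ⟨⟨⟨fun a b => Subtype.ext (Subtype.ext (D.comm_L F a.2 b.2).eq)⟩⟩,
    fun a ha => Subtype.ext ?_⟩, hE8,
    ⟨((QuotientGroup.quotientMulEquivOfEq hker.symm).trans
      (QuotientGroup.quotientKerEquivOfSurjective f hsurj)).trans iso⟩, ?_⟩
  · show (a : G) ^ 2 = 1
    rw [sq]
    exact D.sq_L F ha
  -- the extension does not split
  intro K hK
  have := Fact.mk Nat.prime_two
  have hK168 : Nat.card ↥K = 168 := by
    have h := hK.card_mul
    rw [hE8, hc] at h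
    omega
  obtain ⟨P, hP⟩ := Sylow.exists_subgroup_card_pow_prime (G := ↥K) 2 (n := 3)
    (by rw [hK168]; norm_num)
  set P' : Subgroup G := (P.map K.subtype).map J.subtype with hP'
  have hP'8 : Nat.card ↥P' = 8 := by
    rw [hP', Subgroup.card_map_of_injective (Subgroup.subtype_injective _),
      Subgroup.card_map_of_injective (Subgroup.subtype_injective _), hP]
    norm_num
  have hP'J : P' ≤ J := Subgroup.map_subtype_le _
  have hP'L : ∀ d ∈ P', d ∈ L → d = 1 := by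
    rintro _ ⟨d, ⟨k, -, rfl⟩, rfl⟩ hd
    have hk : (k : ↥J) ∈ E ⊓ K := Subgroup.mem_inf.mpr ⟨hd, k.2⟩
    rw [disjoint_iff.mp hK.disjoint, Subgroup.mem_bot] at hk
    show (((k : ↥J)) : G) = 1
    rw [hk]
    rfl
  have : Nontrivial ↥P' := Finite.one_lt_card_iff_nontrivial.mp (by omega)
  have := (IsPGroup.of_card (p := 2) (n := 3) (by rw [hP'8]; norm_num : Nat.card ↥P' = 2 ^ 3)).center_nontrivial
  obtain ⟨c, hc2⟩ := exists_prime_orderOf_dvd_card' (G := ↥(Subgroup.center ↥P')) 2 (by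
    have h1 : 1 < Nat.card ↥(Subgroup.center ↥P') := Finite.one_lt_card_iff_nontrivial.mpr this
    have h2 : Nat.card ↥(Subgroup.center ↥P') ∣ 2 ^ 3 := by
      have := Subgroup.card_subgroup_dvd_card (Subgroup.center ↥P')
      rwa [hP'8] at this
    obtain ⟨k, -, hk⟩ := (Nat.dvd_prime_pow Nat.prime_two).mp h2
    rcases k with _ | k
    · omega
    · rw [hk, pow_succ]; exact dvd_mul_left _ _)
  set τ : G := ((c : ↥P') : G) with hτ
  have hτ2 : orderOf τ = 2 := by
    rw [← hc2, hτ]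
    exact (orderOf_injective P'.subtype Subtype.coe_injective _).trans
      (orderOf_injective (Subgroup.center ↥P').subtype Subtype.coe_injective c)
  have hτP : τ ∈ P' := (c : ↥P').2
  have hτx : Commute τ x := mem_cz.mp (hJ.le (hP'J hτP))
  have hτtt := Involutions.Basic.invol_mul_self hτ2
  have hτn : ¬ IsConj z τ := fun h =>
    Involutions.Basic.invol_ne_one hτ2 (hP'L τ hτP (D.class_eq F F5 I hτx h))
  have h80 := (card_cent_second D.S F5 I D.ord hτ2 hτn hτx.symm).1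
  set D' := cz τ ⊓ cz x with hD'
  have hτN : τ ∈ Subgroup.normalizer (L : Set G) := hJN (hP'J hτP)
  have hq := fixed_quarter (L := L) (fun a ha => D.sq_L F ha) hτtt
    fun a ha => (Subgroup.mem_normalizer_iff.mp hτN a).mp ha
  rw [show Nat.card ↥L = 8 from D.card_L F] at hq
  have hDN : D' ≤ Subgroup.normalizer (L : Set G) := inf_le_right.trans (D.cz_le_normalizer F F5 I)
  let π : ↥D' →* MulAut ↥L := L.normalizerMonoidHom.comp (Subgroup.inclusion hDN)
  -- the image has order divisible by 8, the kernel by 5 times `|L ∩ C(τ)|`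
  have hker' : Subgroup.zpowers x ⊔ (L ⊓ cz τ) ≤ π.ker.map D'.subtype := by
    have key : ∀ d, (hd : d ∈ D') → (∀ l ∈ L, Commute l d) → d ∈ π.ker.map D'.subtype :=
      fun d hd hl => ⟨⟨d, hd⟩, by
        show (⟨d, hd⟩ : ↥D') ∈ π.ker
        rw [MonoidHom.mem_ker, MonoidHom.comp_apply, ← MonoidHom.mem_ker,
          Subgroup.normalizerMonoidHom_ker, Subgroup.mem_subgroupOf]
        exact Subgroup.mem_centralizer_iff.mpr fun l hlL => (hl l hlL).eq, rfl⟩
    refine sup_le (Subgroup.zpowers_le.mpr (key x ⟨mem_cz.mpr hτx.symm, mem_cz.mpr (Commute.refl x)⟩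
      fun l hl => (D.commute_line F hl).symm)) fun d hd => ?_
    exact key d ⟨hd.2, mem_cz.mpr (D.commute_line F hd.1).symm⟩ fun l hl => D.comm_L F hl hd.1
  have h20 : 20 ≤ Nat.card ↥π.ker := by
    set A := L ⊓ cz τ with hA'
    have hA4 : 4 ≤ Nat.card ↥A := by
      have hd : Nat.card ↥A ∣ 8 := by
        rw [← D.card_L F, ← hL]
        exact Subgroup.card_dvd_of_le inf_le_left
      obtain ⟨m, hm, hmA⟩ := (Nat.dvd_prime_pow Nat.prime_two).mp
        (show Nat.card ↥A ∣ 2 ^ 3 by simpa using hd)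
      rw [hmA] at hq ⊢
      interval_cases m <;> omega
    have h1 := Subgroup.card_dvd_of_le ((le_sup_left).trans hker')
    have h2 := Subgroup.card_dvd_of_le ((le_sup_right).trans hker')
    rw [Nat.card_zpowers, D.ord, Subgroup.card_map_of_injective (Subgroup.subtype_injective _)] at h1
    rw [Subgroup.card_map_of_injective (Subgroup.subtype_injective _)] at h2
    have hd : Nat.card ↥A ∣ 8 := by
      rw [← D.card_L F, ← hL]
      exact Subgroup.card_dvd_of_le inf_le_left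
    have hcop : Nat.Coprime 5 (Nat.card ↥A) :=
      Nat.Coprime.coprime_dvd_right hd (by norm_num)
    have := Nat.le_of_dvd Nat.card_pos (hcop.mul_dvd_of_dvd_of_dvd h1 h2)
    omega
  have h8 : 8 ≤ Nat.card ↥π.range := by
    have hPD : P' ≤ D' := fun d hd => ⟨mem_cz.mpr (congrArg Subtype.val
      ((Subgroup.mem_center_iff.mp c.2) ⟨d, hd⟩)), hJ.le (hP'J hd)⟩
    have hinj : Function.Injective (π.comp (Subgroup.inclusion hPD)) := by
      rw [injective_iff_map_eq_one]
      intro d hd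
      have hd' : (⟨(d : G), hJN (hP'J d.2)⟩ : ↥(Subgroup.normalizer (L : Set G))) ∈
          L.normalizerMonoidHom.ker := hd
      rw [Subgroup.normalizerMonoidHom_ker, Subgroup.mem_subgroupOf] at hd'
      obtain ⟨i, l, hl, hdl⟩ := D.cent_line F F5 I (mem_cz.mp (hJ.le (hP'J d.2))) fun l hl =>
        (Subgroup.mem_centralizer_iff.mp hd' l hl).symm
      have hxi : x ^ i ∈ Subgroup.zpowers x ⊓ J := Subgroup.mem_inf.mpr
        ⟨Subgroup.zpow_mem_zpowers x i, by
          rw [show x ^ i = (d : G) * l⁻¹ by rw [hdl, mul_inv_cancel_right]]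
          exact mul_mem (hP'J d.2) (inv_mem (hLJ hl))⟩
      rw [hJ.inf, Subgroup.mem_bot] at hxi
      rw [hxi, one_mul] at hdl
      exact Subtype.ext (hP'L _ d.2 (hdl ▸ hl))
    rw [← hP'8]
    exact Nat.card_le_card_of_injective
      (fun d => (⟨π (Subgroup.inclusion hPD d), _, rfl⟩ : ↥π.range))
      fun a b hab => hinj (congrArg Subtype.val hab :)
  have hmul := Subgroup.card_mul_index π.ker
  rw [Subgroup.index_ker] at hmul
  have := Nat.le_of_dvd (by norm_num) h80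
  have := Nat.mul_le_mul h20 h8
  omega

/-- `|N(⟨x⟩)| = 26880`. -/
theorem card_normalizer :
    Nat.card ↥(Subgroup.normalizer ((Subgroup.zpowers x : Subgroup G) : Set G)) = 26880 := by
  classical
  set S := Subgroup.zpowers x with hS
  set N := Subgroup.normalizer (S : Set G) with hN
  have hcen : ∀ d, d ∈ Subgroup.centralizer (S : Set G) ↔ d ∈ cz x := fun d => by
    rw [hS, Subgroup.zpowers_eq_closure, Subgroup.centralizer_closure]
  have hCN : cz x ≤ N := fun d hd => Subgroup.centralizer_le_normalizer _ ((hcen d).mpr hd)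
  let φ : ↥N →* MulAut ↥S := S.normalizerMonoidHom
  have hker : ∀ d : ↥N, d ∈ φ.ker ↔ (d : G) ∈ cz x := fun d => by
    show d ∈ S.normalizerMonoidHom.ker ↔ _
    rw [Subgroup.normalizerMonoidHom_ker, Subgroup.mem_subgroupOf]
    exact hcen _
  set M := (cz z).subgroupOf N
  have hcover : φ.range = (φ.comp M.subtype).range := by
    refine le_antisymm ?_ (by rintro _ ⟨d, rfl⟩; exact ⟨_, rfl⟩)
    rintro _ ⟨n, rfl⟩
    have hns : Commute ((n : G) * z * (n : G)⁻¹) x := by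
      obtain ⟨i, hi⟩ := (Subgroup.mem_normalizer_iff.mp (inv_mem n.2) x).mp
        (Subgroup.mem_zpowers x)
      have hi' : x ^ i = (n : G)⁻¹ * x * (n : G)⁻¹⁻¹ := hi
      have := (D.xz.symm.zpow_right i).map (MulAut.conj (n : G))
      simp only [MulAut.conj_apply, hi', inv_inv] at this
      rwa [show (n : G) * ((n : G)⁻¹ * x * n) * (n : G)⁻¹ = x by group] at this
    have hL := D.class_eq F F5 I hns (isConj_iff.mpr ⟨n, rfl⟩)
    obtain ⟨m, hm, hmz⟩ := D.stab_transitive F F5 I hL fun h =>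
      D.S.z_ne_one (conj_eq_one_iff.mp h)
    have hdn : ((⟨m⁻¹, inv_mem (hCN hm.1)⟩ : ↥N) * n) ∈ M := by
      show m⁻¹ * n ∈ cz z
      refine mem_cz.mpr (mul_inv_eq_iff_eq_mul.mp ?_)
      rw [show m⁻¹ * n * z * (m⁻¹ * (n : G))⁻¹ = m⁻¹ * ((n : G) * z * (n : G)⁻¹) * m by group,
        ← hmz]
      group
    refine ⟨⟨_, hdn⟩, ?_⟩
    rw [MonoidHom.comp_apply, Subgroup.subtype_apply, map_mul,
      (MonoidHom.mem_ker).mp ((hker _).mpr ((cz x).inv_mem hm.1)), one_mul]
  have hkerM : Nat.card ↥(φ.comp M.subtype).ker = 960 := by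
    rw [← D.card_cent F F5]
    exact Nat.card_congr
      ⟨fun d => ⟨d.1.1.1, d.1.2, (hker d.1.1).mp d.2⟩,
        fun v => ⟨⟨⟨v.1, hCN v.2.2⟩, v.2.1⟩, (hker _).mpr v.2.2⟩, fun _ => rfl, fun _ => rfl⟩
  have hM : Nat.card ↥M = 3840 := by
    rw [← D.card_norm F F5]
    exact Nat.card_congr ⟨fun d => ⟨d.1.1, d.2, d.1.2⟩, fun v => ⟨⟨v.1, v.2.2⟩, v.2.1⟩,
      fun _ => rfl, fun _ => rfl⟩
  have h4 : Nat.card ↥φ.range = 4 := by
    have h := Subgroup.card_mul_index (φ.comp M.subtype).ker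
    rw [Subgroup.index_ker, hkerM, hM, ← hcover] at h
    omega
  have hkerN : Nat.card ↥φ.ker = 6720 := by
    rw [← D.card_cx F F5 I]
    exact Nat.card_congr
      ⟨fun d => ⟨d.1.1, (hker d.1).mp d.2⟩, fun v => ⟨⟨v.1, hCN v.2⟩, (hker _).mpr v.2⟩,
        fun _ => rfl, fun _ => rfl⟩
  have h := Subgroup.card_mul_index φ.ker
  rw [Subgroup.index_ker, hkerN, h4] at h
  exact h.symm

/-- A Frobenius group of order twenty. -/
theorem exists_frobenius : ∃ R : Subgroup G, Subgroup.zpowers x ≤ R ∧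
    R ≤ Subgroup.normalizer ((Subgroup.zpowers x : Subgroup G) : Set G) ∧ Nat.card ↥R = 20 ∧
    R ⊓ cz x = Subgroup.zpowers x := by
  classical
  obtain ⟨t, -, ht2, ht1, htn⟩ := D.exists_second F F5 I
  obtain ⟨V, K, -, -, -, -, -, -, -, ⟨iso⟩⟩ :=
    I.second t (orderOf_eq_prime (by rw [sq, ht2]) ht1) htn
  obtain ⟨a, b, ha, hb, hab⟩ := F5.frobenius
  let g : AutM22 →* G := K.subtype.comp iso.symm.toMonoidHom
  have hg : Function.Injective g := Subtype.coe_injective.comp iso.symm.injective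
  obtain ⟨h, hmem⟩ := conj_zpowers_five (D.not_dvd F F5 I) (a := g a) (b := x)
    (by rw [orderOf_injective g hg, ha]) D.ord
  let c : AutM22 →* G := (MulAut.conj h).toMonoidHom.comp g
  have hc : Function.Injective c := (MulAut.conj h).injective.comp hg
  set A := c a
  set B := c b
  have hAo : orderOf A = 5 := (orderOf_injective c hc a).trans ha
  have hBo : orderOf B = 4 := (orderOf_injective c hc b).trans hb
  have hQ : Subgroup.zpowers A = Subgroup.zpowers x := zpowers_eq_of_five hAo D.ord hmem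
  have hBA : B * A * B⁻¹ = A * A := by
    show c b * c a * (c b)⁻¹ = c a * c a
    rw [← map_inv, ← map_mul, ← map_mul, ← map_mul, hab]
  set R := Subgroup.zpowers A ⊔ Subgroup.zpowers B with hR
  have hBn : Subgroup.zpowers B ≤
      Subgroup.normalizer ((Subgroup.zpowers A : Subgroup G) : Set G) := by
    refine Subgroup.zpowers_le.mpr (mem_normalizer_of_le ?_)
    rintro _ ⟨i, rfl⟩
    rw [← conj_zpow, hBA]
    exact zpow_mem (mul_mem (Subgroup.mem_zpowers A) (Subgroup.mem_zpowers A)) i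
  have hprod : ∀ r ∈ R, ∃ q ∈ Subgroup.zpowers A, ∃ s ∈ Subgroup.zpowers B, q * s = r := by
    intro r hr
    have hr' : r ∈ ((Subgroup.zpowers A ⊔ Subgroup.zpowers B : Subgroup G) : Set G) := hr
    rw [Subgroup.coe_mul_of_right_le_normalizer_left _ _ hBn] at hr'
    exact hr'
  have hA4 : ∀ j : ℤ, Commute (B ^ j) A → B ^ j = 1 := by
    intro j hj
    have hrec : ∀ n : ℕ, B ^ n * A * (B ^ n)⁻¹ = A ^ (2 ^ n) := by
      intro n
      induction n with
      | zero => simp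
      | succ m ih =>
        rw [pow_succ', show B * B ^ m * A * (B * B ^ m)⁻¹ = B * (B ^ m * A * (B ^ m)⁻¹) * B⁻¹ by
          group, ih, ← conj_pow, hBA, ← sq, ← pow_mul, ← pow_succ']
    obtain ⟨n, hn⟩ : ∃ n : ℕ, B ^ j = B ^ n := ⟨(j % 4).toNat, by
      rw [← zpow_natCast, Int.toNat_of_nonneg (by omega), zpow_eq_zpow_iff_modEq, hBo]
      exact (Int.mod_modEq _ _).symm⟩
    rw [hn] at hj ⊢
    have h1 := hrec (n % 4)
    rw [← pow_mod_orderOf, hBo] at hj ⊢
    rw [mul_inv_eq_iff_eq_mul.mpr hj.eq] at h1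
    have h2 : A ^ (1 : ℕ) = A ^ (2 ^ (n % 4)) := by rwa [pow_one]
    rw [pow_eq_pow_iff_modEq, hAo, Nat.ModEq] at h2
    have : n % 4 < 4 := Nat.mod_lt _ (by norm_num)
    interval_cases hm : n % 4 <;> first | exact pow_zero B | norm_num at h2
  have hdisj : ∀ q ∈ Subgroup.zpowers A, ∀ s ∈ Subgroup.zpowers B, Commute (q * s) A → s = 1 := by
    rintro _ ⟨i, rfl⟩ _ ⟨j, rfl⟩ h
    refine hA4 j ?_
    have := (((Commute.refl A).zpow_left i).inv_left).mul_left h
    rwa [inv_mul_cancel_left] at this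
  refine ⟨R, hQ ▸ le_sup_left, hQ ▸ sup_le Subgroup.le_normalizer hBn, ?_, le_antisymm ?_ ?_⟩
  · have hf : Function.Bijective
        (fun q : ↥(Subgroup.zpowers A) × ↥(Subgroup.zpowers B) =>
          (⟨q.1 * q.2, mul_mem (Subgroup.mem_sup_left q.1.2) (Subgroup.mem_sup_right q.2.2)⟩ :
            ↥R)) := by
      constructor
      · rintro ⟨⟨_, i, rfl⟩, ⟨_, j, rfl⟩⟩ ⟨⟨_, k, rfl⟩, ⟨_, l, rfl⟩⟩ heq
        have heq' : A ^ i * B ^ j = A ^ k * B ^ l := congrArg Subtype.val heq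
        have h1 : B ^ (j - l) = A ^ (-i + k) := by
          rw [sub_eq_add_neg, zpow_add, zpow_add, zpow_neg, zpow_neg, mul_inv_eq_iff_eq_mul,
            mul_assoc, ← heq', inv_mul_cancel_left]
        have h2 := hA4 (j - l) (h1 ▸ (Commute.refl A).zpow_left _)
        rw [sub_eq_add_neg, zpow_add, zpow_neg, mul_inv_eq_one] at h2
        rw [h2] at heq'
        exact Prod.ext (Subtype.ext (mul_right_cancel heq')) (Subtype.ext h2)
      · rintro ⟨r, hr⟩
        obtain ⟨q, hq, s, hs, rfl⟩ := hprod r hr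
        exact ⟨(⟨q, hq⟩, ⟨s, hs⟩), rfl⟩
    rw [← Nat.card_eq_of_bijective _ hf, Nat.card_prod, Nat.card_zpowers, Nat.card_zpowers, hAo,
      hBo]
  · rintro r ⟨hr, hrx⟩
    obtain ⟨q, hq, s, hs, rfl⟩ := hprod r hr
    have hA : Commute (q * s) A := by
      obtain ⟨i, hi⟩ := hQ.le (Subgroup.mem_zpowers A)
      exact hi ▸ (mem_cz.mp hrx).zpow_right i
    rw [hdisj q hq s hs hA, mul_one, ← hQ]
    exact hq
  · exact le_inf (hQ ▸ le_sup_left) (Subgroup.zpowers_le.mpr (mem_cz.mpr (Commute.refl x)))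

end Five

/-- The form of S5572. -/
theorem order_five_local [IsSimpleGroup G] (hG : ¬ IsMulCommutative G)
    (hJ : Cfsg.IsOfJankoFourTypeAt z) (F : AutFacts) (F5 : FiveFacts) (I : Inputs z)
    (S : Subgroup G) (hS : Nat.card ↥S = 5) (hSz : S ≤ Subgroup.centralizer ({z} : Set G)) :
    ¬ (25 ∣ Nat.card G) ∧
    (∃ J : Subgroup G, Cfsg.IsInternalDirectProduct S J (Subgroup.centralizer (S : Set G)) ∧
      ∃ (E : Subgroup ↥J) (_ : E.Normal), Cfsg.IsElementaryAbelian 2 E ∧ Nat.card ↥E = 8 ∧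
        Nonempty (↥J ⧸ E ≃* Matrix.SpecialLinearGroup (Fin 3) (ZMod 2)) ∧
        ∀ K : Subgroup ↥J, ¬ E.IsComplement' K) ∧
    (∃ R : Subgroup G, S ≤ R ∧ R ≤ Subgroup.normalizer (S : Set G) ∧ Nat.card ↥R = 20 ∧
      R ⊓ Subgroup.centralizer (S : Set G) = S) ∧
    Nat.card ↥(Subgroup.normalizer (S : Set G)) = 2 ^ 8 * 3 * 5 * 7 := by
  have := Fact.mk Nat.prime_five
  obtain ⟨⟨x, hx⟩, h5⟩ := exists_prime_orderOf_dvd_card' (G := ↥S) 5 (dvd_of_eq hS.symm)
  rw [Subgroup.orderOf_mk] at h5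
  have hSeq : S = Subgroup.zpowers x :=
    (Subgroup.eq_of_le_of_card_ge (Subgroup.zpowers_le.mpr hx)
      (by rw [Nat.card_zpowers, h5, hS])).symm
  obtain ⟨p0, S0⟩ := Setting.of_at hJ
  obtain ⟨p, e, D⟩ := exists_five_data hG S0 F (hSz hx) h5
  have hcz : Subgroup.centralizer (S : Set G) = cz x := by
    rw [hSeq, Subgroup.zpowers_eq_closure, Subgroup.centralizer_closure]
  obtain ⟨J, hJc, hJ8⟩ := D.exists_compl F F5 I
  rw [hcz]
  subst hSeq
  refine ⟨D.not_dvd F F5 I, ⟨J, ⟨Subgroup.zpowers_le.mpr (mem_cz.mpr (Commute.refl x)), hJc.le,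
    ?_, hJc.inf, hJc.sup⟩, D.compl_structure F F5 I hJc hJ8⟩, D.exists_frobenius F F5 I, ?_⟩
  · rintro _ ⟨i, rfl⟩ b hb
    exact ((mem_cz.mp (hJc.le hb)).zpow_right i).symm.eq
  · rw [D.card_normalizer F F5 I]
    norm_num

end Cfsg.Agent.Lib.J4Five
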