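import Cfsg.Agent.Lib.J4Local.Facts

/-!
# The finite facts about elements of order five used in the 5-local analysis of J4-type groups
-/

set_option autoImplicit false

namespace Cfsg.Agent.Lib.J4Five

open Cfsg.Agent.Lib.J4Local

/-- Centralisers and normalisers of elements of order five in `Aut M22` and `M24`. -/
structure FiveFacts : Prop where
  cent : ∀ a : AutM22, orderOf a = 5 →
    Nat.card ↥(Subgroup.centralizer ({a} : Set AutM22)) = 10
  cent_inn : ∀ a : AutM22, orderOf a = 5 →
    Nat.card ↥(inn ⊓ Subgroup.centralizer ({a} : Set AutM22)) = 5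
  norm : ∀ a : AutM22, orderOf a = 5 →
    Nat.card ↥(Subgroup.normalizer ((Subgroup.zpowers a : Subgroup AutM22) : Set AutM22)) = 40
  norm24 : ∀ a : Cfsg.M24, orderOf a = 5 →
    Nat.card ↥(Subgroup.normalizer ((Subgroup.zpowers a : Subgroup Cfsg.M24) : Set Cfsg.M24)) = 240
  frobenius : ∃ a b : AutM22, orderOf a = 5 ∧ orderOf b = 4 ∧ b * a * b⁻¹ = a * a

end Cfsg.Agent.Lib.J4Five
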