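import Cfsg.Agent.Lib.J4Local.RowsG
import Cfsg.Agent.Lib.J4Local.Five
import Cfsg.Agent.Lib.J4Seven.Fix
import Cfsg.Agent.Lib.J4Five.Facts

/-!
# An element of order five of `C(z)`: fixed points on `O₂`, centralizer and normalizer in `C(z)`
-/

set_option autoImplicit false
set_option linter.unusedSectionVars false

namespace Cfsg.Agent.Lib.J4Five

open Cfsg.Agent.Lib.J4Local
open Cfsg.Agent.Lib.LargeExtraspecial.Basic
open Cfsg.Agent.Lib.J4Seven (card_modEq pow_shift)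

variable {G : Type*} [Group G]

theorem pow_five {x : G} (hx : orderOf x = 5) : x ^ 5 = 1 := by rw [← hx, pow_orderOf_eq_one]

/-- Subgroups of order five are conjugate when 25 does not divide the order. -/
theorem conj_zpowers_five {W : Type*} [Group W] [Finite W] (h25 : ¬ 25 ∣ Nat.card W) {a b : W}
    (ha : orderOf a = 5) (hb : orderOf b = 5) : ∃ h, h * a * h⁻¹ ∈ Subgroup.zpowers b := by
  have := Fact.mk Nat.prime_five
  have key : ∀ {c : W}, orderOf c = 5 →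
      ∃ P : Sylow 5 W, (P : Subgroup W) = Subgroup.zpowers c := by
    intro c hc
    have hcard : Nat.card ↥(Subgroup.zpowers c) = 5 ^ 1 := by rw [Nat.card_zpowers, hc, pow_one]
    obtain ⟨P, hP⟩ := (IsPGroup.of_card hcard).exists_le_sylow
    obtain ⟨k, hk⟩ := P.2.exists_card_eq
    refine ⟨P, (Subgroup.eq_of_le_of_card_ge hP ?_).symm⟩
    rw [hk, hcard]
    refine Nat.pow_le_pow_right (by norm_num) ?_
    by_contra hgt
    exact h25 ((pow_dvd_pow 5 (show 2 ≤ k by omega)).trans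
      (hk ▸ Subgroup.card_subgroup_dvd_card _))
  obtain ⟨P, hP⟩ := key ha
  obtain ⟨R, hR⟩ := key hb
  obtain ⟨h, hh⟩ := MulAction.exists_smul_eq W P R
  refine ⟨h, ?_⟩
  have h2 : h * a * h⁻¹ ∈ ((h • P : Sylow 5 W) : Subgroup W) :=
    Subgroup.smul_mem_pointwise_smul a (MulAut.conj h) _ (hP.ge (Subgroup.mem_zpowers a))
  rwa [hh, hR] at h2

theorem zpowers_eq_of_five [Finite G] {a x : G} (ha : orderOf a = 5) (hx : orderOf x = 5)
    (h : a ∈ Subgroup.zpowers x) : Subgroup.zpowers a = Subgroup.zpowers x :=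
  Subgroup.eq_of_le_of_card_ge (Subgroup.zpowers_le.mpr h)
    (by rw [Nat.card_zpowers, Nat.card_zpowers, ha, hx])

theorem commute_of_zpowers {a x d : G} (h : x ∈ Subgroup.zpowers a) (hd : Commute d a) :
    Commute d x := by
  obtain ⟨i, rfl⟩ := h
  exact hd.zpow_right i

variable [Finite G] {z p x e : G}

theorem not_dvd_cz (S : Setting z p) (F : AutFacts) : ¬ 25 ∣ Nat.card ↥(cz z) := by
  rw [S.card_cz F]
  norm_num

theorem conj_five (S : Setting z p) (F : AutFacts) {a b : G} (ha : a ∈ cz z) (hb : b ∈ cz z)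
    (ha5 : orderOf a = 5) (hb5 : orderOf b = 5) :
    ∃ h ∈ cz z, h * a * h⁻¹ ∈ Subgroup.zpowers b := by
  obtain ⟨h, hh⟩ := conj_zpowers_five (not_dvd_cz S F) (a := (⟨a, ha⟩ : ↥(cz z))) (b := ⟨b, hb⟩)
    (by rw [Subgroup.orderOf_mk, ha5]) (by rw [Subgroup.orderOf_mk, hb5])
  obtain ⟨i, hi⟩ := hh
  exact ⟨h, h.2, i, congrArg Subtype.val hi⟩

/-- An element of order five commuting with `p`, for a suitable choice of `p`. -/
theorem exists_setting (S : Setting z p) (F : AutFacts) {x : G} (hx : x ∈ cz z)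
    (h5 : orderOf x = 5) : ∃ p', Setting z p' ∧ Commute x p' := by
  have := Fact.mk Nat.prime_five
  obtain ⟨⟨a, ha⟩, ha5⟩ := exists_prime_orderOf_dvd_card' (G := ↥(kSub z p)) 5
    (by rw [S.card_kSub F]; norm_num)
  rw [Subgroup.orderOf_mk] at ha5
  obtain ⟨h, hh, hmem⟩ := conj_five S F hx ha.1 h5 ha5
  obtain ⟨i, hi⟩ := hmem
  have hc : Commute (h * x * h⁻¹) p := hi ▸ (mem_cz.mp ha.2).zpow_left i
  have S' := S.conj h⁻¹
  rw [show h⁻¹ * z * h⁻¹⁻¹ = z from
    mul_inv_eq_iff_eq_mul.mpr (mem_cz.mp (inv_mem hh)).eq] at S'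
  refine ⟨_, S', ?_⟩
  have h2 := hc.map (MulAut.conj h⁻¹)
  simp only [MulAut.conj_apply] at h2
  rwa [show h⁻¹ * (h * x * h⁻¹) * h⁻¹⁻¹ = x by group] at h2

/-- The fixed points of an odd element on `O₂` form an extraspecial group. -/
theorem es_fixed (S : Setting z p) {s : G} (hs : Commute s z) {n : ℕ} (hn : Odd n)
    (hsn : s ^ n = 1) : ES (cQ z s) z := by
  have hzn : z ^ n = z := by
    obtain ⟨m, rfl⟩ := hn
    rw [pow_succ, pow_mul, sq, S.z_sq, one_pow, one_mul]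
  refine ⟨S.z_mem_cQ (mem_cz.mpr hs), S.z_ne_one, S.z_sq,
    fun a ha => S.es.comm a (mem_cQ.mp ha).1, ?_,
    fun a ha b hb => S.es.conj a (mem_cQ.mp ha).1 b (mem_cQ.mp hb).1⟩
  intro a ha hall
  by_contra hne
  push Not at hne
  obtain ⟨v, hv, hva⟩ := S.es.exists_conj_ne (mem_cQ.mp ha).1 hne.1 hne.2
  set w := (v * s) ^ n with hw
  have key : ∀ m : ℕ, ∃ f ∈ Q z, (v * s) ^ m = f * s ^ m := by
    intro m
    induction m with
    | zero => exact ⟨1, one_mem _, by simp⟩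
    | succ k ih =>
      obtain ⟨f, hf, hm⟩ := ih
      refine ⟨f * (s ^ k * v * (s ^ k)⁻¹), mul_mem hf
        (S.conj_mem (pow_mem (mem_cz.mpr hs) k) hv), ?_⟩
      rw [pow_succ, hm, pow_succ]
      group
  obtain ⟨f, hf, hfn⟩ := key n
  rw [hsn, mul_one] at hfn
  have hwQ : w ∈ Q z := by rw [hw, hfn]; exact hf
  have hsw : s * w * s⁻¹ = v⁻¹ * w * v⁻¹⁻¹ := by
    rw [hw, ← conj_pow, ← conj_pow]
    congr 1
    group
  have hfixw : s * w * s⁻¹ = w := by
    rcases S.es.conj v⁻¹ (inv_mem hv) w hwQ with h | h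
    · rw [hsw, h]
    · exfalso
      have h1 := pow_shift (hsw.trans h) hs n
      rw [hsn, one_mul, inv_one, mul_one, hzn] at h1
      exact S.z_ne_one (by simpa using h1.symm)
  have hwX : w ∈ cQ z s := mem_cQ.mpr ⟨hwQ, (mul_inv_eq_iff_eq_mul.mp hfixw).symm⟩
  have hsa : Commute a s := (mem_cQ.mp ha).2
  have hact : (v * s) * a * (v * s)⁻¹ = a * z := by
    rw [show (v * s) * a * (v * s)⁻¹ = v * (s * a * s⁻¹) * v⁻¹ by group,
      mul_inv_eq_iff_eq_mul.mpr hsa.symm.eq, hva]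
  have h1 := pow_shift hact ((S.es.comm v hv).mul_left hs) n
  rw [← hw, mul_inv_eq_iff_eq_mul.mpr (hall w hwX).eq, hzn] at h1
  exact S.z_ne_one (by simpa using h1.symm)

/-- The data: `x` of order five, `p` and `e` with which it commutes. -/
structure Five (z p x e : G) : Prop where
  S : Setting z p
  xz : Commute x z
  xp : Commute x p
  ord : orderOf x = 5
  he : e ∈ Q z
  hze : IsConj z e
  hne : e ≠ z
  xe : Commute x e

/-- Every element of order five of `C(z)` fits. -/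
theorem exists_five_data [IsSimpleGroup G] (hG : ¬ IsMulCommutative G) (S : Setting z p)
    (F : AutFacts) {x : G} (hx : x ∈ cz z) (h5 : orderOf x = 5) :
    ∃ p' e, Five z p' x e := by
  obtain ⟨e0, he0, hze0, hne0⟩ := S.exists_fused hG F
  obtain ⟨r, T⟩ := S.exists_setting hze0
  obtain ⟨a, ha5, haz, hae, -, -⟩ := S.exists_five F T he0 hne0
  obtain ⟨h, hh, hmem⟩ := conj_five S F (mem_cz.mpr haz) hx ha5 h5
  have hse : x ∈ Subgroup.zpowers (h * a * h⁻¹) :=
    (zpowers_eq_of_five ((MulEquiv.orderOf_eq (MulAut.conj h) a).trans ha5) h5 hmem).ge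
      (Subgroup.mem_zpowers x)
  obtain ⟨p', S', hp'⟩ := exists_setting S F hx h5
  refine ⟨p', h * e0 * h⁻¹, S', mem_cz.mp hx, hp', h5, S.conj_mem hh he0,
    hze0.trans (isConj_iff.mpr ⟨h, rfl⟩), fun hc => hne0 ?_,
    (commute_of_zpowers hse ((hae.symm).map (MulAut.conj h))).symm⟩
  have hz : h * z * h⁻¹ = z := mul_inv_eq_iff_eq_mul.mpr (mem_cz.mp hh).eq
  exact mul_left_cancel (mul_right_cancel (hc.trans hz.symm))

namespace Five

variable (D : Five z p x e)
include D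

theorem mem : x ∈ cz z := mem_cz.mpr D.xz

theorem not_Q : x ∉ Q z := fun h => by
  have h1 := orderOf_dvd_of_pow_eq_one (D.S.pow_Q h)
  rw [D.ord] at h1
  norm_num at h1

theorem img_ord : orderOf (D.S.img x) = 5 := by
  have := Fact.mk Nat.prime_five
  refine orderOf_eq_prime ?_ fun h => ?_
  · rw [← D.S.img_pow D.mem, pow_five D.ord, D.S.img_of_mem (one_mem _)]
    exact map_one _
  · obtain ⟨f, hf, i, hi⟩ := (D.S.img_eq_one D.mem).mp h
    have hfc : Commute f p := by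
      have h2 := D.xp
      rw [hi] at h2
      have h3 := h2.mul_left ((Commute.refl p).zpow_left i).inv_left
      rwa [mul_inv_cancel_right] at h3
    have h6 : x ^ 6 = 1 := by
      have h3 : (p ^ i) ^ 6 = 1 := by
        rw [← zpow_natCast, ← zpow_mul, mul_comm, zpow_mul, zpow_natCast,
          show p ^ 6 = (p ^ 3) ^ 2 by rw [← pow_mul], D.S.p_cube, one_pow, one_zpow]
      have hf2 : f ^ 2 = 1 := by
        rcases D.S.fix f hf hfc with rfl | rfl
        · exact one_pow 2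
        · rw [sq, D.S.z_sq]
      rw [hi, (hfc.zpow_right i).mul_pow, h3, show f ^ 6 = (f ^ 2) ^ 3 by rw [← pow_mul], hf2,
        one_pow, mul_one]
    have h1 := orderOf_dvd_of_pow_eq_one h6
    rw [D.ord] at h1
    norm_num at h1

theorem line_le (F : AutFacts) : line z p e ≤ cQ z x := by
  obtain ⟨r, T⟩ := D.S.exists_setting D.hze
  intro l hl
  refine mem_cQ.mpr ⟨(D.S.line_le_inter F T D.he D.hne hl).1, ?_⟩
  have hle : line z p e ≤ cz x := by
    rw [line, Subgroup.closure_le]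
    rintro w (rfl | rfl | rfl)
    · exact mem_cz.mpr D.xz.symm
    · exact mem_cz.mpr D.xe.symm
    · exact mem_cz.mpr ((D.xp.symm.mul_left D.xe.symm).mul_left D.xp.symm.inv_left)
  exact mem_cz.mp (hle hl)

theorem card_L (F : AutFacts) : Nat.card ↥(line z p e) = 8 := by
  obtain ⟨r, T⟩ := D.S.exists_setting D.hze
  exact D.S.card_line F T D.he D.hne

theorem conj_L (F : AutFacts) {l : G} (hl : l ∈ line z p e) (h1 : l ≠ 1) : IsConj z l := by
  obtain ⟨r, T⟩ := D.S.exists_setting D.hze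
  exact D.S.line_class F T D.he D.hne D.hze hl h1

theorem sq_L (F : AutFacts) {l : G} (hl : l ∈ line z p e) : l * l = 1 := by
  by_cases h1 : l = 1
  · rw [h1, one_mul]
  · obtain ⟨g, hg⟩ := isConj_iff.mp (D.conj_L F hl h1)
    rw [← hg, show g * z * g⁻¹ * (g * z * g⁻¹) = g * (z * z) * g⁻¹ by group, D.S.z_sq]
    group

theorem comm_L (F : AutFacts) {a b : G} (ha : a ∈ line z p e) (hb : b ∈ line z p e) :
    Commute a b := by
  show a * b = b * a
  rw [← inv_eq_of_mul_eq_one_right (D.sq_L F (mul_mem ha hb)), mul_inv_rev,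
    inv_eq_of_mul_eq_one_right (D.sq_L F ha), inv_eq_of_mul_eq_one_right (D.sq_L F hb)]

theorem conj_p_cQ {v : G} (hv : v ∈ cQ z x) : p * v * p⁻¹ ∈ cQ z x := by
  obtain ⟨h1, h2⟩ := mem_cQ.mp hv
  refine mem_cQ.mpr ⟨D.S.conj_mem D.S.p_mem_cz h1, ?_⟩
  exact (D.xp.symm.mul_left h2).mul_left D.xp.symm.inv_left

/-- `|C_E(x)| = 32` with twenty elements of square one. -/
theorem cQ_spec (F : AutFacts) : Nat.card ↥(cQ z x) = 32 ∧
    Nat.card {v // v ∈ cQ z x ∧ v * v = 1} = 20 := by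
  classical
  have := Fact.mk Nat.prime_five
  have := Fact.mk Nat.prime_three
  have h5 := pow_five D.ord
  set X : Subgroup G := cQ z x with hX
  have hXQ : X ≤ Q z := inf_le_left
  have hzX : z ∈ X := D.S.z_mem_cQ D.mem
  obtain ⟨k, hk, hcard⟩ := D.S.odd_exponent hXQ hzX fun v hv => D.conj_p_cQ hv
  have hk13 : k ≤ 13 := by
    have h := Subgroup.card_le_of_le hXQ
    rw [hcard, D.S.card_E] at h
    exact (Nat.pow_le_pow_iff_right (by norm_num)).mp h
  have hk3 : 3 ≤ k := by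
    have h := Subgroup.card_le_of_le (D.line_le F)
    rw [D.card_L F, ← hX, hcard] at h
    exact (Nat.pow_le_pow_iff_right (by norm_num : 1 < 2)).mp (by simpa using h)
  have hmod := Five.card_fixed_modEq (K := Q z) h5 (fun v hv => D.S.conj_mem D.mem hv)
  change _ ≡ Nat.card ↥X [MOD 5] at hmod
  rw [D.S.card_E, hcard, Nat.ModEq] at hmod
  have hk' : k = 5 ∨ k = 9 ∨ k = 13 := by
    interval_cases k <;> simp_all
  have hk13' : k ≠ 13 := by
    rintro rfl
    have heq : X = Q z := Subgroup.eq_of_le_of_card_ge hXQ (by rw [hcard, D.S.card_E])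
    exact D.not_Q (D.S.self_centralizing x D.xz fun f hf => (mem_cQ.mp (heq.ge hf)).2)
  have hes : ES X z := es_fixed D.S D.xz (by decide) h5
  have hn := ESCount.sq_count D.S.es
  have hm := ESCount.sq_count hes
  have cnt : ∀ Y : Subgroup G, Nat.card {v : ↥Y // (v : G) * v = 1} =
      Nat.card {v // v ∈ Y ∧ v * v = 1} := fun Y =>
    Nat.card_congr (Equiv.subtypeSubtypeEquivSubtypeInter (fun v => v ∈ Y) fun v => v * v = 1)
  have conjsq : ∀ g v : G, v * v = 1 → g * v * g⁻¹ * (g * v * g⁻¹) = 1 := fun g v hv => by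
    rw [show g * v * g⁻¹ * (g * v * g⁻¹) = g * (v * v) * g⁻¹ by group, hv]; group
  rw [cnt, D.S.card_E] at hn
  rw [cnt, hcard] at hm
  have fixp : ∀ Y : Subgroup G, Y ≤ Q z → z ∈ Y → (∀ v ∈ Y, p * v * p⁻¹ ∈ Y) →
      Nat.card {v // v ∈ Y ∧ v * v = 1} ≡ 2 [MOD 3] := by
    intro Y hY hzY hYp
    refine (card_modEq D.S.p_cube (fun v => v ∈ Y ∧ v * v = 1)
      fun v hv => ⟨hYp v hv.1, conjsq p v hv.2⟩).trans ?_
    have : Nat.card {v // (v ∈ Y ∧ v * v = 1) ∧ Commute v p} = ({1, z} : Set G).ncard := by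
      rw [← Nat.card_coe_set_eq]
      refine Nat.card_congr (Equiv.subtypeEquivRight fun v => ⟨fun hv =>
        D.S.fix v (hY hv.1.1) hv.2, ?_⟩)
      rintro (rfl | rfl)
      · exact ⟨⟨one_mem _, one_mul 1⟩, Commute.one_left p⟩
      · exact ⟨⟨hzY, D.S.z_sq⟩, D.S.p_z.symm⟩
    rw [this, Set.ncard_pair (Ne.symm D.S.z_ne_one)]
  have h3n := fixp (Q z) le_rfl D.S.es.mem fun v hv => D.S.conj_mem D.S.p_mem_cz hv
  have h3m := fixp X hXQ hzX fun v hv => D.conj_p_cQ hv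
  have h5n : Nat.card {v // v ∈ Q z ∧ v * v = 1} ≡
      Nat.card {v // v ∈ X ∧ v * v = 1} [MOD 5] := by
    refine (card_modEq h5 (fun v => v ∈ Q z ∧ v * v = 1)
      fun v hv => ⟨D.S.conj_mem D.mem hv.1, conjsq x v hv.2⟩).trans ?_
    rw [Nat.card_congr (Equiv.subtypeEquivRight fun v : G =>
      (⟨fun hv => ⟨mem_cQ.mpr ⟨hv.1.1, hv.2⟩, hv.1.2⟩,
        fun hv => ⟨⟨hXQ hv.1, hv.2⟩, (mem_cQ.mp hv.1).2⟩⟩ :
        (v ∈ Q z ∧ v * v = 1) ∧ Commute v x ↔ v ∈ X ∧ v * v = 1))]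
  set n := Nat.card {v // v ∈ Q z ∧ v * v = 1}
  set m := Nat.card {v // v ∈ X ∧ v * v = 1}
  push_cast at hn hm
  have hn' : n = 4160 ∨ n = 4032 := by
    have : (2 * (n : ℤ) - 8192 - 128) * (2 * (n : ℤ) - 8192 + 128) = 0 := by
      ring_nf at hn ⊢; omega
    rcases mul_eq_zero.mp this with h | h <;> omega
  unfold Nat.ModEq at h3n h3m h5n
  rcases hk' with rfl | rfl | rfl
  · refine ⟨by rw [hcard]; norm_num, ?_⟩
    have : (2 * (m : ℤ) - 32 - 8) * (2 * (m : ℤ) - 32 + 8) = 0 := by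
      ring_nf at hm ⊢; omega
    rcases mul_eq_zero.mp this with h | h <;> omega
  · exfalso
    have : (2 * (m : ℤ) - 512 - 32) * (2 * (m : ℤ) - 512 + 32) = 0 := by
      ring_nf at hm ⊢; omega
    rcases mul_eq_zero.mp this with h | h <;> omega
  · exact absurd rfl hk13'

theorem ker_cent {d : G} (hd : d ∈ cz z) (h1 : D.S.img d = 1) (hc : Commute d x) :
    ∃ f ∈ cQ z x, ∃ i : ℤ, d = f * p ^ i := by
  obtain ⟨f, hf, i, rfl⟩ := (D.S.img_eq_one hd).mp h1
  refine ⟨f, mem_cQ.mpr ⟨hf, ?_⟩, i, rfl⟩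
  have h2 := hc.mul_left (D.xp.symm.zpow_left i).inv_left
  rwa [mul_inv_cancel_right] at h2

theorem kernel_mem {f : G} (hf : f ∈ cQ z x) (i : ℤ) :
    f * p ^ i ∈ cz z ⊓ cz x ∧ D.S.img (f * p ^ i) = 1 := by
  obtain ⟨hfQ, hfx⟩ := mem_cQ.mp hf
  have hfz : f ∈ cz z := Q_le_cz z hfQ
  exact ⟨⟨mul_mem hfz (zpow_mem D.S.p_mem_cz i),
    mem_cz.mpr (hfx.mul_left (D.xp.symm.zpow_left i))⟩,
    (D.S.img_eq_one (mul_mem hfz (zpow_mem D.S.p_mem_cz i))).mpr ⟨f, hfQ, i, rfl⟩⟩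

theorem kernel_inj {f f' : G} (hf : f ∈ cQ z x) (hf' : f' ∈ cQ z x) {i j : ℤ}
    (h : f * p ^ i = f' * p ^ j) : p ^ i = p ^ j ∧ f = f' := by
  have h1 : f'⁻¹ * f = p ^ (j - i) := by
    rw [sub_eq_add_neg, zpow_add, zpow_neg, eq_mul_inv_iff_mul_eq, mul_assoc, h,
      inv_mul_cancel_left]
  have h2 := D.S.zpow_mem_Q (h1 ▸ mul_mem (inv_mem (mem_cQ.mp hf').1) (mem_cQ.mp hf).1)
  rw [h2, inv_mul_eq_one] at h1
  subst h1
  exact ⟨mul_left_cancel h, rfl⟩

/-- Elements of the normaliser of the image lift to the normaliser. -/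
theorem exists_lift_norm {a : AutM22}
    (ha : a * D.S.img x * a⁻¹ ∈ Subgroup.zpowers (D.S.img x)) :
    ∃ h ∈ cz z, D.S.img h = a ∧ h * x * h⁻¹ ∈ Subgroup.zpowers x := by
  obtain ⟨h0, hh0, rfl⟩ := D.S.img_surj a
  set σ : ↥(cz z) := ⟨x, D.mem⟩
  set M : Subgroup ↥(cz z) := (Subgroup.zpowers (D.S.phi σ)).comap D.S.phi with hM
  have hσ : D.S.img x = D.S.phi σ := D.S.img_of_mem D.mem
  have hcardM : Nat.card ↥M = 5 * (3 * 2 ^ 13) := by
    have h1 := Subgroup.card_mul_index M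
    have h2 := Subgroup.card_mul_index (Subgroup.zpowers (D.S.phi σ))
    rw [hM, Subgroup.index_comap_of_surjective _ D.S.phi_surjective] at h1
    rw [← hσ, Nat.card_zpowers, D.img_ord] at h2
    have h3 := Subgroup.card_mul_index D.S.phi.ker
    rw [Subgroup.index_ker, MonoidHom.range_eq_top.mpr D.S.phi_surjective,
      Nat.card_congr Subgroup.topEquiv.toEquiv, D.S.card_ker] at h3
    have hi : (Subgroup.zpowers (D.S.phi σ)).index ≠ 0 := Subgroup.index_ne_zero_of_finite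
    refine mul_right_cancel₀ hi ?_
    rw [h1, ← h3, ← h2, hσ]
    ring
  have hσM : σ ∈ M := Subgroup.mem_zpowers (D.S.phi σ)
  set h0' : ↥(cz z) := ⟨h0, hh0⟩
  have hτM : h0' * σ * h0'⁻¹ ∈ M := by
    show D.S.phi (h0' * σ * h0'⁻¹) ∈ Subgroup.zpowers (D.S.phi σ)
    rw [map_mul, map_mul, map_inv, ← D.S.img_of_mem hh0, ← hσ]
    exact ha
  have hord : orderOf σ = 5 := by rw [Subgroup.orderOf_mk, D.ord]
  obtain ⟨k, i, hi⟩ := conj_zpowers_five (W := ↥M) (a := ⟨_, hτM⟩) (b := ⟨σ, hσM⟩)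
    (by rw [hcardM]; norm_num)
    (by rw [Subgroup.orderOf_mk]; exact (MulEquiv.orderOf_eq (MulAut.conj h0') σ).trans hord)
    (by rw [Subgroup.orderOf_mk, hord])
  obtain ⟨j, hj⟩ := Subgroup.mem_zpowers_iff.mp (k.2 : D.S.phi k.1 ∈ _)
  have hi' : x ^ i = (k.1 : G) * (h0 * x * h0⁻¹) * (k.1 : G)⁻¹ :=
    congrArg (fun w : ↥M => (w.1 : G)) hi
  have hkc : (k.1 : G) ∈ cz z := k.1.2
  refine ⟨x ^ (-j) * (k.1 : G) * h0, mul_mem (mul_mem (zpow_mem D.mem _) hkc) hh0, ?_, ?_⟩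
  · have hsj : D.S.img (x ^ (-j)) = D.S.phi σ ^ (-j) := by
      rw [D.S.img_of_mem (zpow_mem D.mem _), ← map_zpow]
      rfl
    rw [D.S.img_mul (mul_mem (zpow_mem D.mem _) hkc) hh0, D.S.img_mul (zpow_mem D.mem _) hkc,
      hsj, D.S.img_of_mem hkc, show D.S.phi ⟨(k.1 : G), hkc⟩ = D.S.phi k.1 from rfl, ← hj,
      ← zpow_add, neg_add_cancel, zpow_zero, one_mul]
  · refine ⟨i, ?_⟩
    show x ^ i = _
    calc x ^ i = x ^ (-j) * x ^ i * (x ^ (-j))⁻¹ := by group
      _ = _ := by rw [hi']; group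

theorem img_comm {d : G} (hd : d ∈ cz z) (hdx : Commute d x) :
    D.S.img d * D.S.img x = D.S.img x * D.S.img d := by
  rw [← D.S.img_mul hd D.mem, ← D.S.img_mul D.mem hd, hdx.eq]

theorem img_zpow (i : ℤ) : D.S.img (x ^ i) = D.S.img x ^ i := by
  rw [D.S.img_of_mem (zpow_mem D.mem i), D.S.img_of_mem D.mem, ← map_zpow]
  rfl

theorem eq_one_of_img {i : ℤ} {d : G} (hd : d = x ^ i)
    (h : D.S.img x ^ i = D.S.img x) : d = x := by
  have h' : D.S.img x ^ i = D.S.img x ^ (1 : ℤ) := by rw [h, zpow_one]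
  rw [zpow_eq_zpow_iff_modEq, D.img_ord, ← D.ord, ← zpow_eq_zpow_iff_modEq, zpow_one] at h'
  rw [hd, h']

/-- `|C(z) ∩ C(x)| = 960`. -/
theorem card_cent (F : AutFacts) (F5 : FiveFacts) : Nat.card ↥(cz z ⊓ cz x) = 960 := by
  let m : ↥(cz z ⊓ cz x) →* AutM22 := D.S.phi.comp (Subgroup.inclusion inf_le_left)
  have hm : ∀ d : ↥(cz z ⊓ cz x), m d = D.S.img d := fun d => (D.S.img_of_mem _).symm
  have hrange : m.range = Subgroup.centralizer ({D.S.img x} : Set AutM22) := by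
    ext a
    rw [mem_centralizer_single]
    constructor
    · rintro ⟨d, rfl⟩
      show m d * _ = _ * m d
      rw [hm]
      exact D.img_comm d.2.1 (mem_cz.mp d.2.2)
    · intro ha
      obtain ⟨h, hh, rfl, i, hi⟩ := D.exists_lift_norm (a := a) ⟨1, by
        show D.S.img x ^ (1 : ℤ) = _
        rw [zpow_one, ha.eq, mul_inv_cancel_right]⟩
      have hi' : x ^ i = h * x * h⁻¹ := hi
      have h2 : D.S.img x ^ i = D.S.img x := by
        rw [← D.img_zpow, hi', D.S.img_mul (mul_mem hh D.mem) (inv_mem hh), D.S.img_mul hh D.mem,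
          D.S.img_inv hh, ha.eq, mul_inv_cancel_right]
      exact ⟨⟨h, hh, mem_cz.mpr (mul_inv_eq_iff_eq_mul.mp (D.eq_one_of_img hi'.symm h2))⟩, hm _⟩
  have h := Subgroup.card_mul_index m.ker
  rw [Subgroup.index_ker, hrange, F5.cent _ D.img_ord] at h
  have hker : Nat.card ↥m.ker = 32 * 3 := by
    let f : ↥(cQ z x) × ↥(Subgroup.zpowers p) → ↥m.ker := fun t =>
      ⟨⟨t.1 * t.2, by
        obtain ⟨i, hi⟩ := Subgroup.mem_zpowers_iff.mp t.2.2
        rw [← hi]
        exact (D.kernel_mem t.1.2 i).1⟩, by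
        obtain ⟨i, hi⟩ := Subgroup.mem_zpowers_iff.mp t.2.2
        rw [MonoidHom.mem_ker, hm]
        show D.S.img ((t.1 : G) * t.2) = 1
        rw [← hi]
        exact (D.kernel_mem t.1.2 i).2⟩
    have hf : Function.Bijective f := by
      constructor
      · rintro ⟨a, b⟩ ⟨a', b'⟩ hab
        obtain ⟨i, hi⟩ := Subgroup.mem_zpowers_iff.mp b.2
        obtain ⟨j, hj⟩ := Subgroup.mem_zpowers_iff.mp b'.2
        have h' : (a : G) * b = a' * b' := congrArg (fun w : ↥m.ker => (w.1 : G)) hab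
        rw [← hi, ← hj] at h'
        obtain ⟨h1, h2⟩ := D.kernel_inj a.2 a'.2 h'
        rw [Subtype.ext h2, Subtype.ext (hi.symm.trans (h1.trans hj) : (b : G) = b')]
      · rintro ⟨d, hd⟩
        obtain ⟨g, hg, i, hgi⟩ := D.ker_cent d.2.1 ((hm d).symm.trans hd) (mem_cz.mp d.2.2)
        exact ⟨(⟨g, hg⟩, ⟨p ^ i, Subgroup.zpow_mem_zpowers p i⟩),
          Subtype.ext (Subtype.ext hgi.symm)⟩
    rw [← Nat.card_eq_of_bijective f hf, Nat.card_prod, (D.cQ_spec F).1, Nat.card_zpowers,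
      D.S.ord_p]
  omega

/-- `|N_{C(z)}⟨x⟩| = 3840`. -/
theorem card_norm (F : AutFacts) (F5 : FiveFacts) :
    Nat.card ↥(cz z ⊓ Subgroup.normalizer ((Subgroup.zpowers x : Subgroup G) : Set G)) = 3840 := by
  set N := cz z ⊓ Subgroup.normalizer ((Subgroup.zpowers x : Subgroup G) : Set G) with hN
  let m : ↥N →* AutM22 := D.S.phi.comp (Subgroup.inclusion inf_le_left)
  have hm : ∀ d : ↥N, m d = D.S.img d := fun d => (D.S.img_of_mem _).symm
  have hconj : ∀ {a b : G}, a ∈ cz z → b ∈ cz z → D.S.img (a * b * a⁻¹) =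
      D.S.img a * D.S.img b * (D.S.img a)⁻¹ := fun ha hb => by
    rw [D.S.img_mul (mul_mem ha hb) (inv_mem ha), D.S.img_mul ha hb, D.S.img_inv ha]
  have hrange : m.range =
      Subgroup.normalizer ((Subgroup.zpowers (D.S.img x) : Subgroup AutM22) : Set AutM22) := by
    ext a
    constructor
    · rintro ⟨d, rfl⟩
      obtain ⟨j, hj⟩ :=
        (Subgroup.mem_normalizer_iff.mp d.2.2 x).mp (Subgroup.mem_zpowers x)
      have hj' : x ^ j = (d : G) * x * (d : G)⁻¹ := hj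
      refine mem_normalizer_of_le ?_
      rintro _ ⟨i, rfl⟩
      rw [← conj_zpow]
      refine zpow_mem (Subgroup.mem_zpowers_iff.mpr ⟨j, ?_⟩) i
      rw [← D.img_zpow, hj', hm, hconj d.2.1 D.mem]
    · intro ha
      obtain ⟨h, hh, rfl, j, hj⟩ := D.exists_lift_norm (a := a)
        ((Subgroup.mem_normalizer_iff.mp ha _).mp (Subgroup.mem_zpowers _))
      refine ⟨⟨h, hh, mem_normalizer_of_le ?_⟩, hm _⟩
      rintro _ ⟨i, rfl⟩
      rw [← conj_zpow]
      exact zpow_mem (Subgroup.mem_zpowers_iff.mpr ⟨j, hj⟩) i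
  have h := Subgroup.card_mul_index m.ker
  rw [Subgroup.index_ker, hrange, F5.norm _ D.img_ord] at h
  -- the kernel is the kernel on the centralizer
  have hker : Nat.card ↥m.ker * 10 = 960 := by
    let n : ↥(cz z ⊓ cz x) →* AutM22 := D.S.phi.comp (Subgroup.inclusion inf_le_left)
    have hn : ∀ d : ↥(cz z ⊓ cz x), n d = D.S.img d := fun d => (D.S.img_of_mem _).symm
    have hnr : Nat.card ↥n.range ∣ 10 := by
      rw [← F5.cent _ D.img_ord]
      refine Subgroup.card_dvd_of_le ?_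
      rintro _ ⟨d, rfl⟩
      refine mem_centralizer_single.mpr ?_
      show n d * _ = _ * n d
      rw [hn]
      exact D.img_comm d.2.1 (mem_cz.mp d.2.2)
    have hnr' : Nat.card ↥n.range = 10 := by
      refine le_antisymm (Nat.le_of_dvd (by norm_num) hnr) ?_
      rw [← F5.cent _ D.img_ord]
      refine Subgroup.card_le_of_le fun a ha => ?_
      obtain ⟨h, hh, rfl, i, hi⟩ := D.exists_lift_norm (a := a) ⟨1, by
        show D.S.img x ^ (1 : ℤ) = _
        rw [zpow_one, (mem_centralizer_single.mp ha).eq, mul_inv_cancel_right]⟩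
      have hi' : x ^ i = h * x * h⁻¹ := hi
      have h2 : D.S.img x ^ i = D.S.img x := by
        rw [← D.img_zpow, hi', hconj hh D.mem, (mem_centralizer_single.mp ha).eq,
          mul_inv_cancel_right]
      exact ⟨⟨h, hh, mem_cz.mpr (mul_inv_eq_iff_eq_mul.mp (D.eq_one_of_img hi'.symm h2))⟩, hn _⟩
    have h2 := Subgroup.card_mul_index n.ker
    rw [Subgroup.index_ker, hnr', D.card_cent F F5] at h2
    rw [← h2]
    congr 1
    refine Nat.card_congr ⟨fun d => ⟨⟨d.1, d.1.2.1, mem_cz.mpr ?_⟩, d.2⟩,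
      fun d => ⟨⟨d.1, d.1.2.1, ?_⟩, d.2⟩, fun _ => rfl, fun _ => rfl⟩
    · obtain ⟨j, hj⟩ :=
        (Subgroup.mem_normalizer_iff.mp d.1.2.2 x).mp (Subgroup.mem_zpowers x)
      have hj' : x ^ j = (d.1 : G) * x * (d.1 : G)⁻¹ := hj
      have hd1 : D.S.img d.1 = 1 := (hm d.1).symm.trans d.2
      have h3 : D.S.img x ^ j = D.S.img x := by
        rw [← D.img_zpow, hj', hconj d.1.2.1 D.mem, hd1, one_mul, inv_one, mul_one]
      exact mul_inv_eq_iff_eq_mul.mp (D.eq_one_of_img hj'.symm h3)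
    · exact Subgroup.centralizer_le_normalizer _ (by
        rw [Subgroup.zpowers_eq_closure, Subgroup.centralizer_closure]; exact d.1.2.2)
  omega

/-- Inner elements of `C(z) ∩ C(x)`. -/
theorem inner_cent (F : AutFacts) (F5 : FiveFacts) {d : G} (hd : d ∈ cz z) (hdx : Commute d x)
    (hi : d ∈ inner z p) : ∃ j : ℤ, ∃ f ∈ cQ z x, ∃ i : ℤ, d = x ^ j * (f * p ^ i) := by
  have hxi : x ∈ inner z p := D.S.kSub_le_inner (mem_kSub.mpr ⟨D.xz, D.xp⟩)
  have hle : Subgroup.zpowers (D.S.img x) ≤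
      inn ⊓ Subgroup.centralizer ({D.S.img x} : Set AutM22) :=
    Subgroup.zpowers_le.mpr ⟨(D.S.img_mem_inn F D.mem).mpr hxi,
      mem_centralizer_single.mpr (Commute.refl _)⟩
  have heq := Subgroup.eq_of_le_of_card_ge hle
    (by rw [F5.cent_inn _ D.img_ord, Nat.card_zpowers, D.img_ord])
  have hmem : D.S.img d ∈ inn ⊓ Subgroup.centralizer ({D.S.img x} : Set AutM22) :=
    ⟨(D.S.img_mem_inn F hd).mpr hi, mem_centralizer_single.mpr (D.img_comm hd hdx)⟩
  obtain ⟨j, hj⟩ := Subgroup.mem_zpowers_iff.mp (heq.ge hmem)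
  have hm : x ^ (-j) * d ∈ cz z := mul_mem (zpow_mem D.mem _) hd
  obtain ⟨f, hf, i, hfi⟩ := D.ker_cent hm (by
    rw [D.S.img_mul (zpow_mem D.mem _) hd, D.img_zpow, ← hj, zpow_neg, inv_mul_cancel])
    (((Commute.refl x).zpow_left _).mul_left hdx)
  exact ⟨j, f, hf, i, by rw [← hfi, ← mul_assoc, ← zpow_add, add_neg_cancel, zpow_zero, one_mul]⟩

/-- An outer element centralising `x`. -/
theorem exists_outer (F : AutFacts) (F5 : FiveFacts) :
    ∃ y, y ∈ cz z ∧ Commute y x ∧ y ∉ inner z p := by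
  by_contra hcon
  push Not at hcon
  have h := D.card_cent F F5
  let m : ↥(cz z ⊓ cz x) →* AutM22 := D.S.phi.comp (Subgroup.inclusion inf_le_left)
  have hm : ∀ d : ↥(cz z ⊓ cz x), m d = D.S.img d := fun d => (D.S.img_of_mem _).symm
  have hrange : Subgroup.centralizer ({D.S.img x} : Set AutM22) ≤
      inn ⊓ Subgroup.centralizer ({D.S.img x} : Set AutM22) := by
    intro a ha
    refine ⟨?_, ha⟩
    obtain ⟨g, hg, rfl, i, hi⟩ := D.exists_lift_norm (a := a) ⟨1, by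
      show D.S.img x ^ (1 : ℤ) = _
      rw [zpow_one, (mem_centralizer_single.mp ha).eq, mul_inv_cancel_right]⟩
    have hi' : x ^ i = g * x * g⁻¹ := hi
    have h2 : D.S.img x ^ i = D.S.img x := by
      rw [← D.img_zpow, hi', D.S.img_mul (mul_mem hg D.mem) (inv_mem hg), D.S.img_mul hg D.mem,
        D.S.img_inv hg, (mem_centralizer_single.mp ha).eq, mul_inv_cancel_right]
    exact (D.S.img_mem_inn F hg).mpr
      (hcon g hg (mul_inv_eq_iff_eq_mul.mp (D.eq_one_of_img hi'.symm h2)))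
  have h2 := Subgroup.card_le_of_le hrange
  rw [F5.cent _ D.img_ord, F5.cent_inn _ D.img_ord] at h2
  omega

end Five

end Cfsg.Agent.Lib.J4Five
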