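import Cfsg.Agent.Lib.J4Five.Orbits

/-!
# The elements of square one in `C_E(x)` for `x` of order five

The line carries the six conjugates of `z`; the other twelve are in the second class.
-/

set_option autoImplicit false
set_option linter.unusedSectionVars false

namespace Cfsg.Agent.Lib.J4Five

open Cfsg.Agent.Lib.J4Local
open Cfsg.Agent.Lib.LargeExtraspecial.Basic

variable {G : Type*} [Group G] [Finite G] {z p x e : G}

theorem not_conj_one (S : Setting z p) : ¬ IsConj z (1 : G) := fun h => by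
  obtain ⟨g, hg⟩ := isConj_iff.mp h
  exact S.z_ne_one (conj_eq_one_iff.mp hg)

theorem isConj_congr {a : G} (g b : G) : IsConj a (g * b * g⁻¹) ↔ IsConj a b := by
  have h : IsConj b (g * b * g⁻¹) := isConj_iff.mpr ⟨g, rfl⟩
  exact ⟨fun h' => h'.trans h.symm, fun h' => h'.trans h⟩

namespace Five

variable (D : Five z p x e)
include D

theorem es_X : ES (cQ z x) z := es_fixed D.S D.xz (by decide) (pow_five D.ord)

theorem conj_cQ {g v : G} (hgz : g ∈ cz z) (hgx : Commute g x) (hv : v ∈ cQ z x) :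
    g * v * g⁻¹ ∈ cQ z x :=
  mem_cQ.mpr ⟨D.S.conj_mem hgz (mem_cQ.mp hv).1,
    (hgx.mul_left (mem_cQ.mp hv).2).mul_left hgx.inv_left⟩

/-- An elementary abelian subgroup of `C_E(x)` of order eight, invariant under `p`: its elements
outside `⟨z⟩` are conjugate under inner elements. -/
theorem trans_six {A : Subgroup G} (hAX : A ≤ cQ z x) (h8 : Nat.card ↥A = 8) (hzA : z ∈ A)
    (hp : ∀ a ∈ A, p * a * p⁻¹ ∈ A) {u v : G} (hu : u ∈ A) (hu1 : u ≠ 1) (huz : u ≠ z)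
    (hv : v ∈ A) (hv1 : v ≠ 1) (hvz : v ≠ z) :
    ∃ k ∈ cz z, Commute k x ∧ k ∈ inner z p ∧ k * u * k⁻¹ = v := by
  classical
  have huQ : u ∈ Q z := (mem_cQ.mp (hAX hu)).1
  set u1 := p * u * p⁻¹
  set u2 := p * u1 * p⁻¹
  have hzp : p * z * p⁻¹ = z := mul_inv_eq_iff_eq_mul.mpr D.S.p_z.eq
  have hfix := fun (w : G) (hw : w ∈ Q z) (h : p * w * p⁻¹ = w ∨ p * w * p⁻¹ = w * z) =>
    D.S.fix_mod hw h
  have e3 : p * u2 * p⁻¹ = u := by
    calc p * (p * (p * u * p⁻¹) * p⁻¹) * p⁻¹ = p ^ 3 * u * (p ^ 3)⁻¹ := by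
          rw [pow_succ, pow_two]; group
      _ = u := by rw [D.S.p_cube]; group
  have n01 : ¬ ModZ z u1 u := fun h => (hfix u huQ h).elim hu1 huz
  have hu1Q : u1 ∈ Q z := D.S.conj_mem D.S.p_mem_cz huQ
  have hu11 : u1 ≠ 1 := fun h => hu1 (conj_eq_one_iff.mp h)
  have hu1z : u1 ≠ z := fun h => huz (mul_left_cancel (mul_right_cancel (h.trans hzp.symm)))
  have hu21 : u2 ≠ 1 := fun h => hu11 (conj_eq_one_iff.mp h)
  have hu2z : u2 ≠ z := fun h => hu1z (mul_left_cancel (mul_right_cancel (h.trans hzp.symm)))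
  have n12 : ¬ ModZ z u2 u1 := fun h => (hfix u1 hu1Q h).elim hu11 hu1z
  have n20 : ¬ ModZ z u u2 := fun h => by
    rw [← e3] at h
    exact (hfix u2 (D.S.conj_mem D.S.p_mem_cz hu1Q) h).elim hu21 hu2z
  have zz : ∀ {a b : G}, a = b * z → b = a * z := fun {a b} h => by
    rw [h, mul_assoc, D.S.z_sq, mul_one]
  have cancel : ∀ {a b : G}, a * z = b * z → a = b := fun h => mul_right_cancel h
  have hset : ({1, z, u, u * z, u1, u1 * z, u2, u2 * z} : Set G) = (A : Set G) := by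
    refine Set.eq_of_subset_of_ncard_le ?_ ?_ (Set.toFinite _)
    · have h1 := hp u hu
      have h2 := hp _ h1
      rintro w (rfl | rfl | rfl | rfl | rfl | rfl | rfl | rfl)
      exacts [one_mem _, hzA, hu, mul_mem hu hzA, h1, mul_mem h1 hzA, h2, mul_mem h2 hzA]
    · rw [← Nat.card_coe_set_eq (A : Set G), SetLike.coe_sort_coe, h8]
      have hz1 := D.S.z_ne_one
      have a1 : ∀ {a : G}, a ≠ z → a * z ≠ 1 := fun {a} ha h =>
        ha (by rw [eq_inv_of_mul_eq_one_left h]; exact D.S.es.zinv)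
      have a2 : ∀ {a : G}, a ≠ 1 → a * z ≠ z := fun {a} ha h => ha (by simpa using h)
      have a3 : ∀ a : G, a * z ≠ a := fun a h => hz1 (by simpa using h)
      rw [Set.ncard_insert_of_notMem, Set.ncard_insert_of_notMem, Set.ncard_insert_of_notMem,
        Set.ncard_insert_of_notMem, Set.ncard_insert_of_notMem, Set.ncard_insert_of_notMem,
        Set.ncard_pair]
      · exact (a3 u2).symm
      · simp only [Set.mem_insert_iff, Set.mem_singleton_iff, not_or]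
        exact ⟨fun h => n12 (Or.inr h.symm), fun h => n12 (Or.inl (cancel h).symm)⟩
      · simp only [Set.mem_insert_iff, Set.mem_singleton_iff, not_or]
        exact ⟨(a3 u1).symm, fun h => n12 (Or.inl h.symm), fun h => n12 (Or.inr (zz h))⟩
      · simp only [Set.mem_insert_iff, Set.mem_singleton_iff, not_or]
        exact ⟨fun h => n01 (Or.inr h.symm), fun h => n01 (Or.inl (cancel h).symm),
          fun h => n20 (Or.inr (zz h.symm)), fun h => n20 (Or.inl (cancel h))⟩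
      · simp only [Set.mem_insert_iff, Set.mem_singleton_iff, not_or]
        exact ⟨(a3 u).symm, fun h => n01 (Or.inl h.symm), fun h => n01 (Or.inr (zz h)),
          fun h => n20 (Or.inl h), fun h => n20 (Or.inr h)⟩
      · simp only [Set.mem_insert_iff, Set.mem_singleton_iff, not_or]
        exact ⟨huz.symm, (a2 hu1).symm, hu1z.symm, (a2 hu11).symm, hu2z.symm, (a2 hu21).symm⟩
      · simp only [Set.mem_insert_iff, Set.mem_singleton_iff, not_or]
        exact ⟨hz1.symm, hu1.symm, (a1 huz).symm, hu11.symm, (a1 hu1z).symm, hu21.symm,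
          (a1 hu2z).symm⟩
  obtain ⟨q, hq, hqu⟩ := D.es_X.exists_conj_ne (hAX hu) hu1 huz
  obtain ⟨hqQ, hqx⟩ := mem_cQ.mp hq
  have hpc := D.S.p_mem_cz
  have hqc := Q_le_cz z hqQ
  have hpi := D.S.p_mem_inner
  have hqi := D.S.Q_le_inner hqQ
  have hw : v ∈ ({1, z, u, u * z, u1, u1 * z, u2, u2 * z} : Set G) := hset.ge hv
  rcases hw with h | h | h | h | h | h | h | h
  · exact absurd h hv1
  · exact absurd h hvz
  · exact ⟨1, one_mem _, Commute.one_left x, one_mem _, by rw [h]; group⟩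
  · exact ⟨q, hqc, hqx, hqi, by rw [h, hqu]⟩
  · exact ⟨p, hpc, D.xp.symm, hpi, h.symm⟩
  · refine ⟨p * q, mul_mem hpc hqc, D.xp.symm.mul_left hqx, mul_mem hpi hqi, ?_⟩
    rw [h, show p * q * u * (p * q)⁻¹ = p * (q * u * q⁻¹) * p⁻¹ by group, hqu,
      show p * (u * z) * p⁻¹ = p * u * p⁻¹ * (p * z * p⁻¹) by group, hzp]
  · exact ⟨p * p, mul_mem hpc hpc, D.xp.symm.mul_left D.xp.symm, mul_mem hpi hpi,
      by rw [h]; simp only [u2, u1]; group⟩
  · refine ⟨p * p * q, mul_mem (mul_mem hpc hpc) hqc,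
      (D.xp.symm.mul_left D.xp.symm).mul_left hqx, mul_mem (mul_mem hpi hpi) hqi, ?_⟩
    rw [h, show p * p * q * u * (p * p * q)⁻¹ = p * (p * (q * u * q⁻¹) * p⁻¹) * p⁻¹ by group, hqu,
      show p * (p * (u * z) * p⁻¹) * p⁻¹ =
        p * (p * u * p⁻¹) * p⁻¹ * (p * (p * z * p⁻¹) * p⁻¹) by group, hzp, hzp]

variable (F : AutFacts) (F5 : FiveFacts) (I : Inputs z)
include F F5 I

/-- No outer element of `C(x)` centralises a second-class element of `C_E(x)`. -/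
theorem no_outer_fix {t : G} (ht : t ∈ cQ z x) (ht2 : t * t = 1) (ht1 : t ≠ 1)
    (htn : ¬ IsConj z t) {k : G} (hkz : k ∈ cz z) (hkx : Commute k x) (hkt : Commute k t) :
    k ∈ inner z p := by
  obtain ⟨htQ, htx⟩ := mem_cQ.mp ht
  have h80 := (card_cent_second D.S F5 I D.ord
    (orderOf_eq_prime (by rw [sq, ht2]) ht1) htn htx.symm).1
  set C := cz t ⊓ cz x
  set K := C ⊓ inner z p with hK
  have hxK : x ∈ K := ⟨⟨mem_cz.mpr htx.symm, mem_cz.mpr (Commute.refl x)⟩,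
    D.S.kSub_le_inner (mem_kSub.mpr ⟨D.xz, D.xp⟩)⟩
  have hle : cQ z x ⊓ cz t ≤ K := fun v hv =>
    ⟨⟨hv.2, mem_cz.mpr (mem_cQ.mp hv.1).2⟩, D.S.Q_le_inner (mem_cQ.mp hv.1).1⟩
  have h32 := (D.cQ_spec F).1
  have h16 : 16 ≤ Nat.card ↥(cQ z x ⊓ cz t) := by
    have := card_le_two_cz (X := cQ z x) (d := t) fun a ha b hb =>
      D.S.es.chi_mul_left (mem_cQ.mp ha).1 (mem_cQ.mp hb).1 htQ
    omega
  have h5 : 5 ∣ Nat.card ↥K := by
    have := Subgroup.card_dvd_of_le (Subgroup.zpowers_le.mpr hxK)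
    rwa [Nat.card_zpowers, D.ord] at this
  have hKle := Subgroup.card_le_of_le (inf_le_left : K ≤ C)
  have h2 : Nat.card ↥(cQ z x ⊓ cz t) ∣ Nat.card ↥K := Subgroup.card_dvd_of_le hle
  obtain ⟨a, ha⟩ :=
    (D.S.isPGroup_Q.to_le (inf_le_left.trans inf_le_left :
      cQ z x ⊓ cz t ≤ Q z)).exists_card_eq
  have h10 : 5 * Nat.card ↥(cQ z x ⊓ cz t) ∣ Nat.card ↥K := by
    refine Nat.Coprime.mul_dvd_of_dvd_of_dvd ?_ h5 h2
    rw [ha]
    exact Nat.Coprime.pow_right a (by norm_num)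
  have hge := Nat.le_of_dvd Nat.card_pos h10
  have hC80 := Nat.le_of_dvd (by norm_num) h80
  have heq : K = C := Subgroup.eq_of_le_of_card_ge inf_le_left (by omega)
  exact (heq.ge (show k ∈ C from ⟨mem_cz.mpr hkt, mem_cz.mpr hkx⟩)).2

/-- An elementary abelian subgroup of `C_E(x)` of order eight with one conjugate of `z`. -/
theorem exists_second_line : ∃ A : Subgroup G, A ≤ cQ z x ∧ Nat.card ↥A = 8 ∧ z ∈ A ∧
    (∀ a ∈ A, p * a * p⁻¹ ∈ A) ∧ (∀ a ∈ A, a * a = 1) ∧ ∀ a ∈ A, IsConj z a → a = z := by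
  classical
  have := Fact.mk Nat.prime_five
  obtain ⟨V0, hV0, hV0c⟩ := I.exists_big
  obtain ⟨-, K, hK, hinf, hsup, ⟨iso⟩⟩ := I.split V0 hV0 hV0c
  obtain ⟨⟨b, hb⟩, hb5⟩ := exists_prime_orderOf_dvd_card' (G := ↥K) 5 (by
    rw [Nat.card_congr iso.toEquiv, Cfsg.Agent.Lib.Golay.card_M24]; norm_num)
  rw [Subgroup.orderOf_mk] at hb5
  obtain ⟨-, huniq0, -, -⟩ := fixed_space D.S F5 I hb5 hV0 hV0c (hK hb)
  obtain ⟨w, hw⟩ := Set.ncard_eq_one.mp huniq0
  have hwmem : w ∈ {v | v ∈ V0 ⊓ cz b ∧ IsConj z v} := hw ▸ Set.mem_singleton w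
  obtain ⟨g, hg⟩ := isConj_iff.mp hwmem.2.symm
  have hbz : g * b * g⁻¹ ∈ cz z := by
    refine mem_cz.mpr ?_
    have := (mem_cz.mp hwmem.1.2).symm.map (MulAut.conj g)
    simp only [MulAut.conj_apply] at this
    rwa [hg] at this
  obtain ⟨h, hh, hmem⟩ := conj_five D.S F hbz D.mem
    ((MulEquiv.orderOf_eq (MulAut.conj g) b).trans hb5) D.ord
  set m := h * g
  have hmb : m * b * m⁻¹ = h * (g * b * g⁻¹) * h⁻¹ := by simp only [m]; group
  have hmw : m * w * m⁻¹ = z := by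
    rw [show m * w * m⁻¹ = h * (g * w * g⁻¹) * h⁻¹ by simp only [m]; group, hg]
    exact mul_inv_eq_iff_eq_mul.mpr (mem_cz.mp hh).eq
  have hse : x ∈ Subgroup.zpowers (m * b * m⁻¹) := by
    rw [hmb]
    refine (zpowers_eq_of_five ?_ D.ord hmem).ge (Subgroup.mem_zpowers x)
    exact (MulEquiv.orderOf_eq (MulAut.conj h) _).trans
      ((MulEquiv.orderOf_eq (MulAut.conj g) b).trans hb5)
  set V := V0.map (MulAut.conj m).toMonoidHom with hVdef
  have hV : Cfsg.IsElementaryAbelian 2 V := by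
    obtain ⟨hc, h2⟩ := hV0
    refine ⟨⟨⟨?_⟩⟩, ?_⟩
    · rintro ⟨_, a, ha, rfl⟩ ⟨_, b', hb', rfl⟩
      refine Subtype.ext ?_
      show MulAut.conj m a * MulAut.conj m b' = MulAut.conj m b' * MulAut.conj m a
      have h' := congrArg Subtype.val (hc.is_comm.comm (⟨a, ha⟩ : ↥V0) ⟨b', hb'⟩)
      simp only [Subgroup.coe_mul] at h'
      rw [← map_mul, ← map_mul, h']
    · rintro _ ⟨a, ha, rfl⟩
      rw [← map_pow, h2 a ha, map_one]
  have hVc : Nat.card ↥V = 2 ^ 11 := by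
    rw [hVdef, Subgroup.card_map_of_injective (MulAut.conj m).injective, hV0c]
  have hxV : x ∈ Subgroup.normalizer (V : Set G) := by
    refine Subgroup.zpowers_le.mpr (mem_normalizer_of_le ?_) hse
    rintro _ ⟨v, hv, rfl⟩
    refine ⟨b * v * b⁻¹, (Subgroup.mem_normalizer_iff.mp (hK hb) v).mp hv, ?_⟩
    simp only [MulEquiv.coe_toMonoidHom, MulAut.conj_apply]
    group
  obtain ⟨h8, huniq, hsq, c, hc3, hcx, hcV⟩ := fixed_space D.S F5 I D.ord hV hVc hxV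
  set A := V ⊓ cz x with hA
  have hzA : z ∈ A := ⟨⟨w, hwmem.1.1, hmw⟩, mem_cz.mpr D.xz.symm⟩
  have honly : ∀ a ∈ A, IsConj z a → a = z := by
    intro a ha hc
    obtain ⟨w', hw'⟩ := Set.ncard_eq_one.mp huniq
    have h1 : a ∈ ({w'} : Set G) := hw'.le ⟨ha, hc⟩
    have h2 : z ∈ ({w'} : Set G) := hw'.le ⟨hzA, IsConj.refl z⟩
    exact h1.trans h2.symm
  have hcA : ∀ a ∈ A, c * a * c⁻¹ ∈ A := fun a ha =>
    ⟨(Subgroup.mem_normalizer_iff.mp hcV a).mp ha.1,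
      mem_cz.mpr ((hcx.mul_left (mem_cz.mp ha.2)).mul_left hcx.inv_left)⟩
  have hcz : c ∈ cz z := mem_cz.mpr (mul_inv_eq_iff_eq_mul.mp
    (honly _ (hcA z hzA) (isConj_iff.mpr ⟨c, rfl⟩)))
  have hAz : ∀ a ∈ A, a ∈ cz z ∧ Commute a x := fun a ha => by
    refine ⟨mem_cz.mpr ?_, mem_cz.mp ha.2⟩
    exact congrArg Subtype.val (hV.1.is_comm.comm (⟨a, ha.1⟩ : ↥V) ⟨z, hzA.1⟩)
  have himgc : D.S.img c = 1 := by
    have h1 : D.S.img c ^ 3 = 1 := by
      rw [← D.S.img_pow hcz, ← hc3, pow_orderOf_eq_one, D.S.img_of_mem (one_mem _)]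
      exact map_one _
    have h2 := orderOf_dvd_natCard (⟨D.S.img c, mem_centralizer_single.mpr (D.img_comm hcz hcx)⟩ :
      ↥(Subgroup.centralizer ({D.S.img x} : Set AutM22)))
    rw [Subgroup.orderOf_mk, F5.cent _ D.img_ord] at h2
    exact orderOf_eq_one_iff.mp (Nat.dvd_one.mp
      (show Nat.gcd 3 10 = 1 by norm_num ▸ Nat.dvd_gcd (orderOf_dvd_of_pow_eq_one h1) h2))
  obtain ⟨f, hf, i, hci⟩ := D.ker_cent hcz himgc hcx
  obtain ⟨hfQ, hfx⟩ := mem_cQ.mp hf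
  have hcase : c = f * p ∨ c = f * p⁻¹ := by
    rcases D.S.p_zpow_cases i with h | h | h <;> rw [h] at hci
    · exfalso
      have hpow := D.S.pow_Q hfQ
      rw [mul_one] at hci
      rw [← hci] at hpow
      have := orderOf_dvd_of_pow_eq_one hpow
      rw [hc3] at this
      norm_num at this
    · exact Or.inl hci
    · refine Or.inr ?_
      rw [hci, inv_eq_of_mul_eq_one_right
        (show p * (p * p) = 1 by rw [← sq, ← pow_succ', D.S.p_cube])]
  have hfz : f ∈ cz z := Q_le_cz z hfQ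
  -- `A` lies in `C_E(x)`
  have hAX : A ≤ cQ z x := by
    intro a ha
    obtain ⟨haz, hax⟩ := hAz a ha
    have hbA : a * c * a⁻¹ * c⁻¹ ∈ A := by
      rw [show a * c * a⁻¹ * c⁻¹ = a * (c * a⁻¹ * c⁻¹) by group]
      exact mul_mem ha (hcA _ (inv_mem ha))
    have hbQ : a * c * a⁻¹ * c⁻¹ ∈ Q z := by
      refine D.S.mem_Q_of_img_one (hAz _ hbA).1 ?_ (k := 1) (by rw [pow_one, sq]; exact hsq _ hbA.1)
      rw [D.S.img_mul (mul_mem (mul_mem haz hcz) (inv_mem haz)) (inv_mem hcz),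
        D.S.img_mul (mul_mem haz hcz) (inv_mem haz), D.S.img_mul haz hcz, D.S.img_inv hcz,
        D.S.img_inv haz, himgc]
      group
    have hai : a ∈ inner z p := by
      refine ⟨mem_cz.mp haz, ?_⟩
      rcases hcase with h | h
      · have hp : p = f⁻¹ * c := by rw [h, inv_mul_cancel_left]
        rw [hp, show a * (f⁻¹ * c) * a⁻¹ * (f⁻¹ * c)⁻¹ =
          (a * f⁻¹ * a⁻¹) * (a * c * a⁻¹ * c⁻¹) * f by group]
        exact mul_mem (mul_mem (D.S.conj_mem haz (inv_mem hfQ)) hbQ) hfQ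
      · have hp : p = c⁻¹ * f := by rw [h]; group
        rw [hp, show a * (c⁻¹ * f) * a⁻¹ * (c⁻¹ * f)⁻¹ =
          (c⁻¹ * (a * c * a⁻¹ * c⁻¹)⁻¹ * c⁻¹⁻¹) * (c⁻¹ * ((a * f * a⁻¹) * f⁻¹) * c⁻¹⁻¹) by group]
        exact mul_mem (D.S.conj_mem (inv_mem hcz) (inv_mem hbQ))
          (D.S.conj_mem (inv_mem hcz) (mul_mem (D.S.conj_mem haz hfQ) (inv_mem hfQ)))
    obtain ⟨j, f', hf', l, hl⟩ := D.inner_cent F F5 haz hax hai
    have hsq1 : D.S.img a * D.S.img a = 1 := by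
      rw [← D.S.img_mul haz haz, hsq a ha.1, D.S.img_of_mem (one_mem _)]
      exact map_one _
    have himg : D.S.img a = D.S.img x ^ j := by
      rw [hl, D.S.img_mul (zpow_mem D.mem j) (D.kernel_mem hf' l).1.1, (D.kernel_mem hf' l).2,
        mul_one, D.img_zpow]
    have h1 : D.S.img a = 1 := by
      rw [himg, ← zpow_add] at hsq1
      have h2 := orderOf_dvd_iff_zpow_eq_one.mpr hsq1
      rw [himg, ← orderOf_dvd_iff_zpow_eq_one]
      rw [D.img_ord] at h2 ⊢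
      omega
    exact mem_cQ.mpr ⟨D.S.mem_Q_of_img_one haz h1 (k := 1) (by rw [pow_one, sq]; exact hsq a ha.1),
      hax⟩
  have hfA : ∀ a ∈ A, f⁻¹ * a * f⁻¹⁻¹ ∈ A := fun a ha => by
    rcases D.S.es.conj f⁻¹ (inv_mem hfQ) a (mem_cQ.mp (hAX ha)).1 with h | h <;> rw [h]
    exacts [ha, mul_mem ha hzA]
  refine ⟨A, hAX, h8, hzA, fun a ha => ?_, fun a ha => hsq a ha.1, honly⟩
  rcases hcase with h | h
  · rw [show p * a * p⁻¹ = f⁻¹ * (c * a * c⁻¹) * f⁻¹⁻¹ by rw [h]; group]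
    exact hfA _ (hcA a ha)
  · have hinv : ∀ a' ∈ A, p⁻¹ * a' * p ∈ A := fun a' ha' => by
      rw [show p⁻¹ * a' * p = f⁻¹ * (c * a' * c⁻¹) * f⁻¹⁻¹ by rw [h]; group]
      exact hfA _ (hcA a' ha')
    rw [show p * a * p⁻¹ = p⁻¹ * (p⁻¹ * a * p) * p from ?_]
    · exact hinv _ (hinv a ha)
    have hpp : p⁻¹ * p⁻¹ = p := by
      rw [← mul_inv_rev]
      exact inv_eq_of_mul_eq_one_right (by rw [← sq, ← pow_succ, D.S.p_cube])
    rw [show p⁻¹ * (p⁻¹ * a * p) * p = (p⁻¹ * p⁻¹) * a * (p⁻¹ * p⁻¹)⁻¹ by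
      simp [mul_assoc], hpp]

/-- The conjugates of `z` in `C_E(x)` lie on the line. -/
theorem conj_mem_line {v : G} (hv : v ∈ cQ z x) (hc : IsConj z v) : v ∈ line z p e := by
  classical
  obtain ⟨A, hAX, hA8, hzA, hAp, hA2, hAz⟩ := D.exists_second_line F F5 I
  obtain ⟨y, hy, hyx, hyo⟩ := D.exists_outer F F5
  have hyz : y * z * y⁻¹ = z := mul_inv_eq_iff_eq_mul.mpr (mem_cz.mp hy).eq
  set B := A.map (MulAut.conj y).toMonoidHom with hB
  have hBX : B ≤ cQ z x := by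
    rintro _ ⟨a, ha, rfl⟩
    exact D.conj_cQ hy hyx (hAX ha)
  have hB8 : Nat.card ↥B = 8 := by
    rw [hB, Subgroup.card_map_of_injective (MulAut.conj y).injective, hA8]
  have hzB : z ∈ B := ⟨z, hzA, hyz⟩
  have hpinv : ∀ a ∈ A, p⁻¹ * a * p ∈ A := fun a ha => by
    rw [show p⁻¹ * a * p = p * (p * a * p⁻¹) * p⁻¹ from ?_]
    · exact hAp _ (hAp a ha)
    have hpp : p * p = p⁻¹ := (inv_eq_of_mul_eq_one_right (by rw [← sq, ← pow_succ', D.S.p_cube])).symm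
    rw [show p * (p * a * p⁻¹) * p⁻¹ = p * p * a * (p * p)⁻¹ by group, hpp, inv_inv]
  have hBp : ∀ b ∈ B, p * b * p⁻¹ ∈ B := by
    rintro _ ⟨a, ha, rfl⟩
    obtain ⟨g, hg⟩ : ∃ g, g = y⁻¹ * p * y * p := ⟨_, rfl⟩
    have hgQ : g ∈ Q z := by
      rw [hg]
      have hyi : y⁻¹ ∉ inner z p := fun h => hyo (by simpa using inv_mem h)
      have := (D.S.inner_or_inverts (inv_mem hy)).resolve_left hyi
      rwa [inv_inv] at this
    refine ⟨g * (p⁻¹ * a * p) * g⁻¹, ?_, ?_⟩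
    · rcases D.S.es.conj g hgQ _ (mem_cQ.mp (hAX (hpinv a ha))).1 with h | h <;> rw [h]
      exacts [hpinv a ha, mul_mem (hpinv a ha) hzA]
    · simp only [MulEquiv.coe_toMonoidHom, MulAut.conj_apply, hg]
      group
  have hB2 : ∀ b ∈ B, b * b = 1 := by
    rintro _ ⟨a, ha, rfl⟩
    rw [← map_mul, hA2 a ha, map_one]
  have hBz : ∀ b ∈ B, IsConj z b → b = z := by
    rintro _ ⟨a, ha, rfl⟩ h
    simp only [MulEquiv.coe_toMonoidHom, MulAut.conj_apply] at h ⊢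
    rw [hAz a ha ((isConj_congr y a).mp h), hyz]
  -- the two subgroups differ
  have hne : A ≠ B := by
    intro heq
    obtain ⟨u, hu, hu1, huz⟩ : ∃ u ∈ A, u ≠ 1 ∧ u ≠ z := by
      by_contra hcon
      push Not at hcon
      have hsub : (A : Set G) ⊆ {1, z} := fun u hu => by
        by_cases h1 : u = 1
        exacts [Or.inl h1, Or.inr (hcon u hu h1)]
      have := Set.ncard_le_ncard hsub
      rw [Set.ncard_pair D.S.z_ne_one.symm, ← Nat.card_coe_set_eq, SetLike.coe_sort_coe, hA8]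
        at this
      omega
    have hv' : y * u * y⁻¹ ∈ A := heq.ge ⟨u, hu, rfl⟩
    obtain ⟨k, hk, hkx, hki, hku⟩ := D.trans_six hAX hA8 hzA hAp hv'
      (fun h => hu1 (conj_eq_one_iff.mp h))
      (fun h => huz (mul_left_cancel (mul_right_cancel (h.trans hyz.symm)))) hu hu1 huz
    have hkyi := D.no_outer_fix F F5 I (hAX hu) (hA2 u hu) hu1 (fun h => huz (hAz u hu h))
      (mul_mem hk hy) (hkx.mul_left hyx) (mul_inv_eq_iff_eq_mul.mp (by
        rw [show k * y * u * (k * y)⁻¹ = k * (y * u * y⁻¹) * k⁻¹ by group, hku]))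
    exact hyo ((Subgroup.mul_mem_cancel_left _ hki).mp hkyi)
  have hAB : ∀ u ∈ A, u ∈ B → u = 1 ∨ u = z := by
    obtain ⟨k, hk, hcard⟩ := D.S.odd_exponent (X := A ⊓ B)
      (inf_le_left.trans (hAX.trans inf_le_left)) ⟨hzA, hzB⟩
      fun w hw => ⟨hAp w hw.1, hBp w hw.2⟩
    have hle := Subgroup.card_le_of_le (inf_le_left : A ⊓ B ≤ A)
    have hlt : Nat.card ↥(A ⊓ B) < 8 := by
      refine lt_of_le_of_ne (hA8 ▸ hle) fun h => hne ?_
      have h1 : A ⊓ B = A := Subgroup.eq_of_le_of_card_ge inf_le_left (by rw [h, hA8])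
      exact Subgroup.eq_of_le_of_card_ge (h1 ▸ inf_le_right) (by rw [hA8, hB8])
    rw [hcard] at hlt
    have hk1 : k = 1 := by
      have := (Nat.pow_lt_pow_iff_right (by norm_num : 1 < 2)).mp (show 2 ^ k < 2 ^ 3 by simpa using hlt)
      omega
    intro u hu hu'
    have hsub : ({1, z} : Set G) ⊆ ((A ⊓ B : Subgroup G) : Set G) := by
      rintro w (rfl | rfl)
      exacts [one_mem _, ⟨hzA, hzB⟩]
    have heq := Set.eq_of_subset_of_ncard_le hsub (by
      rw [Set.ncard_pair (Ne.symm D.S.z_ne_one), ← Nat.card_coe_set_eq, SetLike.coe_sort_coe,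
        hcard, hk1]
      norm_num) (Set.toFinite _)
    exact heq.ge ⟨hu, hu'⟩
  -- counting
  set L := line z p e with hL
  have hzL : z ∈ L := z_mem_line z p e
  have hLX := D.line_le F
  have hmin : ∀ (Y : Subgroup G), z ∈ Y → Nat.card ↥Y = 8 →
      Set.ncard ((Y : Set G) \ {1, z}) = 6 := by
    intro Y hzY hY
    rw [Set.ncard_sdiff (by rintro w (rfl | rfl); exacts [one_mem _, hzY]),
      Set.ncard_pair (Ne.symm D.S.z_ne_one), ← Nat.card_coe_set_eq, SetLike.coe_sort_coe, hY]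
  set U := (L : Set G) ∪ (((A : Set G) \ {1, z}) ∪ ((B : Set G) \ {1, z})) with hU
  have hU20 : U.ncard = 20 := by
    rw [hU, Set.ncard_union_eq, Set.ncard_union_eq, hmin A hzA hA8, hmin B hzB hB8,
      ← Nat.card_coe_set_eq, SetLike.coe_sort_coe, D.card_L F]
    · refine Set.disjoint_left.mpr ?_
      rintro w ⟨hwA, hw⟩ ⟨hwB, -⟩
      exact hw (hAB w hwA hwB)
    · refine Set.disjoint_left.mpr ?_
      rintro w hwL (⟨hwA, hw⟩ | ⟨hwB, hw⟩)
      · by_cases h1 : w = 1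
        exacts [hw (Or.inl h1), hw (Or.inr (hAz w hwA (D.conj_L F hwL h1)))]
      · by_cases h1 : w = 1
        exacts [hw (Or.inl h1), hw (Or.inr (hBz w hwB (D.conj_L F hwL h1)))]
  have hUeq : U = {w | w ∈ cQ z x ∧ w * w = 1} := by
    refine Set.eq_of_subset_of_ncard_le ?_ ?_ (Set.toFinite _)
    · rintro w (hw | ⟨hw, -⟩ | ⟨hw, -⟩)
      exacts [⟨hLX hw, D.sq_L F hw⟩, ⟨hAX hw, hA2 w hw⟩, ⟨hBX hw, hB2 w hw⟩]
    · rw [← Nat.card_coe_set_eq, hU20]
      exact (D.cQ_spec F).2.le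
  have hv2 : v * v = 1 := by
    obtain ⟨g, rfl⟩ := isConj_iff.mp hc
    rw [show g * z * g⁻¹ * (g * z * g⁻¹) = g * (z * z) * g⁻¹ by group, D.S.z_sq]
    group
  rcases hUeq.ge ⟨hv, hv2⟩ with h | ⟨h, -⟩ | ⟨h, -⟩
  · exact h
  · exact (hAz v h hc).symm ▸ hzL
  · exact (hBz v h hc).symm ▸ hzL

/-- A second-class element in `C_E(x)`. -/
theorem exists_second : ∃ t ∈ cQ z x, t * t = 1 ∧ t ≠ 1 ∧ ¬ IsConj z t := by
  obtain ⟨A, hAX, hA8, hzA, -, hA2, hAz⟩ := D.exists_second_line F F5 I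
  by_contra hcon
  push Not at hcon
  have hsub : (A : Set G) ⊆ {1, z} := fun u hu => by
    by_cases h1 : u = 1
    exacts [Or.inl h1, Or.inr (hAz u hu (hcon u (hAX hu) (hA2 u hu) h1))]
  have := Set.ncard_le_ncard hsub
  rw [Set.ncard_pair D.S.z_ne_one.symm, ← Nat.card_coe_set_eq, SetLike.coe_sort_coe, hA8] at this
  omega

end Five

end Cfsg.Agent.Lib.J4Five
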